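import Cfsg.Agent.Lib.HeUnique.Struct.Act

/-!
Normal forms for the subgroup generated by the three elements acting on `Q`.
-/

set_option autoImplicit false

namespace CfsgLib.HeUnique.Struct

/-- Multiplication in the group of order twenty-one. -/
def f21 (a e c d : ℕ) : ℕ := (a + 2 ^ e * c) % 7 + 7 * ((e + d) % 3)

/-- The exponents in the rewriting of `w * s^k * w`. -/
def cOf (k : ℕ) : ℕ := [0, 6, 3, 2, 5, 4, 1].getD k 0
/-- The exponent of the element of order three. -/
def dOf (k : ℕ) : ℕ := [0, 0, 1, 2, 2, 1, 0].getD k 0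
/-- The central exponent. -/
def uOf (k : ℕ) : ℕ := [0, 1, 1, 0, 1, 0, 0].getD k 0

/-- The word of a normal form. -/
def wordN (n : ℕ) : List ℕ :=
  if n < 21 then List.replicate (n % 7) 0 ++ List.replicate (n / 7) 1
  else List.replicate ((n - 21) / 7 % 7) 0 ++ List.replicate ((n - 21) / 7 / 7) 1 ++ [2] ++
    List.replicate ((n - 21) % 7) 0

/-- Right multiplication by a letter: central exponent and normal form. -/
def stepN (g n : ℕ) : ℕ × ℕ :=
  if n < 21 then
    (if g = 0 then (0, f21 (n % 7) (n / 7) 1 0) else if g = 1 then (0, f21 (n % 7) (n / 7) 0 1)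
      else (0, 21 + n * 7))
  else
    let f := (n - 21) / 7
    let k := (n - 21) % 7
    if g = 0 then (0, 21 + f * 7 + (k + 1) % 7)
    else if g = 1 then (0, 21 + f21 (f % 7) (f / 7) 0 2 * 7 + 4 * k % 7)
    else if k = 0 then (1, f)
    else (uOf k, 21 + f21 (f % 7) (f / 7) (cOf k) (dOf k) * 7 + cOf k)

/-- Right multiplication by a word. -/
def mulWord : List ℕ → ℕ × ℕ → ℕ × ℕ
  | [], st => st
  | g :: gs, st => mulWord gs ((st.1 + (stepN g st.2).1) % 2, (stepN g st.2).2)

/-- The product of two normal forms. -/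
def lmulN (i j : ℕ) : ℕ × ℕ := mulWord (wordN j) (0, i)

theorem word_small : ((List.range 168).all fun n => (wordN n).all fun g => decide (g < 3)) = true ∧
    ((List.range 168).all fun n => (List.range 3).all fun g =>
      decide ((stepN g n).1 < 2) && decide ((stepN g n).2 < 168)) = true := by
  decide +kernel

theorem mulWord_lt : ∀ (ws : List ℕ) (st : ℕ × ℕ), (∀ g ∈ ws, g < 3) → st.1 < 2 → st.2 < 168 →
    (mulWord ws st).1 < 2 ∧ (mulWord ws st).2 < 168
  | [], _, _, h1, h2 => ⟨h1, h2⟩
  | g :: gs, st, hw, _, h2 => by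
    have h := List.all_eq_true.mp (List.all_eq_true.mp word_small.2 st.2 (List.mem_range.mpr h2)) g
      (List.mem_range.mpr (hw g (List.mem_cons_self ..)))
    simp only [Bool.and_eq_true, decide_eq_true_eq] at h
    exact mulWord_lt gs _ (fun x hx => hw x (List.mem_cons_of_mem _ hx)) (Nat.mod_lt _ (by norm_num)) h.2

theorem wordN_lt {n : ℕ} (hn : n < 168) : ∀ g ∈ wordN n, g < 3 := fun g hg => by
  have h := List.all_eq_true.mp word_small.1 n (List.mem_range.mpr hn)
  simpa using List.all_eq_true.mp h g hg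

theorem lmulN_lt {i j : ℕ} (hi : i < 168) (hj : j < 168) :
    (lmulN i j).1 < 2 ∧ (lmulN i j).2 < 168 :=
  mulWord_lt _ _ (wordN_lt hj) (by norm_num) hi

variable {G : Type*} [Group G]

/-- The three letters. -/
def letter (s b w : G) (g : ℕ) : G := if g = 0 then s else if g = 1 then b else w

/-- The value of a word. -/
def wordVal (s b w : G) (ws : List ℕ) : G := (ws.map (letter s b w)).prod

/-- The value of a normal form. -/
def rep (s b w : G) (n : ℕ) : G := wordVal s b w (wordN n)

/-- The relations. -/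
structure Rels (s b w u : G) : Prop where
  s7 : s ^ 7 = 1
  b3 : b ^ 3 = 1
  bs : b * s * b⁻¹ = s ^ 2
  wb : w * b * w⁻¹ = b⁻¹
  w2 : w * w = u
  cube : (s * w) ^ 3 = 1
  u2 : u * u = 1
  us : u * s = s * u
  ub : u * b = b * u

namespace Rels

variable {s b w u : G} (H : Rels s b w u)
include H

theorem uw : u * w = w * u := by rw [← H.w2, mul_assoc]

theorem s_mod {m n : ℕ} (h : m % 7 = n % 7) : s ^ m = s ^ n := by
  rw [pow_eq_pow_mod m H.s7, h, ← pow_eq_pow_mod n H.s7]

theorem b_mod {m n : ℕ} (h : m % 3 = n % 3) : b ^ m = b ^ n := by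
  rw [pow_eq_pow_mod m H.b3, h, ← pow_eq_pow_mod n H.b3]

theorem u_mod {m n : ℕ} (h : m % 2 = n % 2) : u ^ m = u ^ n := by
  have hu : u ^ 2 = 1 := by rw [sq, H.u2]
  rw [pow_eq_pow_mod m hu, h, ← pow_eq_pow_mod n hu]

theorem b_pow_s : ∀ (e c : ℕ), b ^ e * s ^ c = s ^ (2 ^ e * c) * b ^ e
  | 0, c => by simp
  | e + 1, c => by
    have h1 : b * s ^ (2 ^ e * c) = s ^ (2 * (2 ^ e * c)) * b := by
      have := congrArg (· ^ (2 ^ e * c)) H.bs
      simp only [conj_pow, ← pow_mul] at this
      rw [← this]; group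
    calc b ^ (e + 1) * s ^ c = b * (b ^ e * s ^ c) := by rw [pow_succ']; group
      _ = b * s ^ (2 ^ e * c) * b ^ e := by rw [b_pow_s e c]; group
      _ = s ^ (2 * (2 ^ e * c)) * (b * b ^ e) := by rw [h1]; group
      _ = _ := by rw [← pow_succ', pow_succ]; ring_nf

theorem f21_eq (a e c d : ℕ) :
    s ^ a * b ^ e * (s ^ c * b ^ d) = s ^ (f21 a e c d % 7) * b ^ (f21 a e c d / 7) := by
  calc s ^ a * b ^ e * (s ^ c * b ^ d) = s ^ a * (b ^ e * s ^ c) * b ^ d := by group
    _ = s ^ (a + 2 ^ e * c) * b ^ (e + d) := by rw [H.b_pow_s, pow_add, pow_add]; group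
    _ = _ := by
      simp only [f21]
      congr 1
      · exact H.s_mod (by omega)
      · exact H.b_mod (by omega)

theorem s_b (k : ℕ) : s ^ k * b = b * s ^ (4 * k) := by
  have h := H.b_pow_s 1 (4 * k)
  simp only [pow_one] at h
  rw [h]
  exact congrArg (· * b) (H.s_mod (by omega))

theorem w_b : w * b = b ^ 2 * w := by
  have h : b⁻¹ = b ^ 2 := inv_eq_of_mul_eq_one_right (by rw [← pow_succ']; exact H.b3)
  rw [← h, ← H.wb]; group

theorem b_w : b * w = w * b ^ 2 := by
  have h : b⁻¹ = b ^ 2 := inv_eq_of_mul_eq_one_right (by rw [← pow_succ']; exact H.b3)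
  calc b * w = (w * b * w⁻¹)⁻¹ * w := by rw [H.wb, inv_inv]
    _ = w * b ^ 2 := by rw [← h]; group

theorem u_comm_pows (i e : ℕ) : u * s ^ i = s ^ i * u ∧ u * b ^ e = b ^ e * u :=
  ⟨((show Commute u s from H.us).pow_right i).eq, ((show Commute u b from H.ub).pow_right e).eq⟩

theorem u_letter (g : ℕ) : u * letter s b w g = letter s b w g * u := by
  unfold letter; split_ifs
  exacts [H.us, H.ub, H.uw]

/-- One conjugation by the element of order three. -/
theorem rule_conj {k a e β : ℕ} (h : w * s ^ k * w = u ^ β * (s ^ a * b ^ e) * w * s ^ a) :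
    w * s ^ (4 * k) * w = u ^ β * (s ^ (2 * a) * b ^ (e + 2)) * w * s ^ (2 * a) := by
  have hb : b ^ 2 = b⁻¹ := (inv_eq_of_mul_eq_one_right (by rw [← pow_succ']; exact H.b3)).symm
  have l : b * (w * s ^ k * w) * b⁻¹ = w * s ^ (4 * k) * w := by
    calc b * (w * s ^ k * w) * b⁻¹ = b * w * s ^ k * (w * b⁻¹) := by group
      _ = w * (b ^ 2 * s ^ k) * (w * b ^ 2) := by rw [H.b_w, hb]; group
      _ = w * (b ^ 2 * s ^ k) * (b * w) := by rw [← H.b_w]
      _ = w * s ^ (2 ^ 2 * k) * (b ^ 2 * b) * w := by rw [H.b_pow_s]; group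
      _ = _ := by rw [← pow_succ, H.b3]; norm_num
  rw [← l, h]
  calc b * (u ^ β * (s ^ a * b ^ e) * w * s ^ a) * b⁻¹
      = (b * u ^ β) * s ^ a * b ^ e * w * (s ^ a * b ^ 2) := by rw [hb]; group
    _ = u ^ β * (b * s ^ a) * b ^ e * w * (s ^ a * b ^ 2) := by
      rw [← ((show Commute u b from H.ub).pow_left β).eq]; group
    _ = u ^ β * (s ^ (2 * a) * (b * b ^ e)) * w * (b ^ 2 * s ^ (2 * a)) := by
      have h1 := H.b_pow_s 1 a
      simp only [pow_one] at h1
      rw [h1, H.b_pow_s 2 (2 * a), H.s_mod (show 2 ^ 2 * (2 * a) % 7 = a % 7 by omega)]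
      group
    _ = u ^ β * (s ^ (2 * a) * (b * b ^ e)) * (w * b ^ 2) * s ^ (2 * a) := by group
    _ = u ^ β * (s ^ (2 * a) * (b * b ^ e)) * (b * w) * s ^ (2 * a) := by rw [H.b_w]
    _ = _ := by rw [show e + 2 = 1 + e + 1 by omega, pow_add, pow_add, pow_one]; group

/-- The six rules. -/
theorem rule {k : ℕ} (h1 : 1 ≤ k) (h6 : k < 7) :
    w * s ^ k * w = u ^ uOf k * (s ^ cOf k * b ^ dOf k) * w * s ^ cOf k := by
  have winv : w⁻¹ = u * w := by
    refine inv_eq_of_mul_eq_one_left ?_
    rw [mul_assoc, H.w2, H.u2]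
  have s6 : s⁻¹ = s ^ 6 := inv_eq_of_mul_eq_one_right (by rw [← pow_succ']; exact H.s7)
  have base : w * s ^ 1 * w = u ^ 1 * (s ^ 6 * b ^ 0) * w * s ^ 6 := by
    have hc : s * w * (s * w) * (s * w) = 1 := by
      rw [← H.cube, pow_succ, pow_two]
    calc w * s ^ 1 * w = s⁻¹ * (s * w * (s * w) * (s * w)) * w⁻¹ * s⁻¹ := by rw [pow_one]; group
      _ = s ^ 6 * (u * w) * s ^ 6 := by rw [hc, winv, s6, mul_one]
      _ = _ := by rw [← mul_assoc, ← (H.u_comm_pows 6 0).1]; simp
  have base6 : w * s ^ 6 * w = u ^ 0 * (s ^ 1 * b ^ 0) * w * s ^ 1 := by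
    have u1 : u⁻¹ = u := inv_eq_of_mul_eq_one_right H.u2
    calc w * s ^ 6 * w = u * w * s ^ 6 * (u * w) := by
          calc w * s ^ 6 * w = u * u * (w * s ^ 6 * w) := by rw [H.u2, one_mul]
            _ = u * (u * (w * s ^ 6)) * w := by group
            _ = u * (w * s ^ 6 * u) * w := by
              rw [((show Commute u w from H.uw).mul_right
                ((show Commute u s from H.us).pow_right 6)).eq]
            _ = _ := by group
      _ = (w * s ^ 1 * w)⁻¹ := by rw [← winv, ← s6, pow_one]; group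
      _ = _ := by
        rw [base, pow_one, pow_one, pow_zero, mul_one, pow_zero, one_mul, ← s6]
        calc (u * s⁻¹ * w * s⁻¹)⁻¹ = s * w⁻¹ * s * u := by simp only [mul_inv_rev, inv_inv, u1]; group
          _ = s * (u * w) * (s * u) := by rw [winv]; group
          _ = s * (w * u) * (u * s) := by rw [H.uw, H.us]
          _ = s * w * (u * u) * s := by group
          _ = _ := by rw [H.u2]; group
  have k4 := H.rule_conj base
  have k2 := H.rule_conj k4
  have k3 := H.rule_conj base6
  have k5 := H.rule_conj k3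
  interval_cases k
  · exact base
  · rw [show cOf 2 = 3 from rfl, show dOf 2 = 1 from rfl, show uOf 2 = 1 from rfl]
    rwa [H.s_mod (show 4 * (4 * 1) % 7 = 2 % 7 by norm_num),
      H.s_mod (show 2 * (2 * 6) % 7 = 3 % 7 by norm_num),
      H.b_mod (show (0 + 2 + 2) % 3 = 1 % 3 by norm_num)] at k2
  · rw [show cOf 3 = 2 from rfl, show dOf 3 = 2 from rfl, show uOf 3 = 0 from rfl]
    rwa [H.s_mod (show 4 * 6 % 7 = 3 % 7 by norm_num)] at k3
  · rw [show cOf 4 = 5 from rfl, show dOf 4 = 2 from rfl, show uOf 4 = 1 from rfl]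
    rwa [H.s_mod (show 2 * 6 % 7 = 5 % 7 by norm_num)] at k4
  · rw [show cOf 5 = 4 from rfl, show dOf 5 = 1 from rfl, show uOf 5 = 0 from rfl]
    rwa [H.s_mod (show 4 * (4 * 6) % 7 = 5 % 7 by norm_num),
      H.b_mod (show (0 + 2 + 2) % 3 = 1 % 3 by norm_num)] at k5
  · exact base6

theorem rep_small {n : ℕ} (hn : n < 21) : rep s b w n = s ^ (n % 7) * b ^ (n / 7) := by
  simp [rep, wordVal, wordN, hn, letter]

theorem rep_big {n : ℕ} (hn : ¬ n < 21) : rep s b w n =
    s ^ ((n - 21) / 7 % 7) * b ^ ((n - 21) / 7 / 7) * w * s ^ ((n - 21) % 7) := by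
  simp [rep, wordVal, wordN, hn, letter, mul_assoc]

theorem step {g n : ℕ} (hg : g < 3) (hn : n < 168) :
    rep s b w n * letter s b w g = u ^ (stepN g n).1 * rep s b w (stepN g n).2 := by
  have hF : ∀ a e c d, f21 a e c d < 21 := fun a e c d => by simp only [f21]; omega
  by_cases h : n < 21
  · rw [H.rep_small h]
    interval_cases g <;>
      simp only [stepN, h, letter, if_true, if_false, one_ne_zero, OfNat.ofNat_ne_zero,
        OfNat.ofNat_ne_one, pow_zero, one_mul]
    · rw [H.rep_small (hF ..), ← H.f21_eq]; simp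
    · rw [H.rep_small (hF ..), ← H.f21_eq]; simp
    · rw [H.rep_big (show ¬ 21 + n * 7 < 21 by omega), show (21 + n * 7 - 21) / 7 = n by omega,
        show (21 + n * 7 - 21) % 7 = 0 by omega, pow_zero, mul_one]
  · rw [H.rep_big h]
    set f := (n - 21) / 7
    set k := (n - 21) % 7
    have hf : f < 21 := by omega
    have big : ∀ F K, K < 7 → F < 21 → rep s b w (21 + F * 7 + K) =
        s ^ (F % 7) * b ^ (F / 7) * w * s ^ K := by
      intro F K hK hFl
      rw [H.rep_big (show ¬ 21 + F * 7 + K < 21 by omega),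
        show (21 + F * 7 + K - 21) / 7 = F by omega, show (21 + F * 7 + K - 21) % 7 = K by omega]
    interval_cases g
    · simp only [stepN, h, letter, if_true, if_false, pow_zero, one_mul]
      rw [big _ _ (Nat.mod_lt _ (by norm_num)) hf,
        H.s_mod (show (k + 1) % 7 % 7 = (k + 1) % 7 by omega), pow_succ]
      group
    · simp only [stepN, h, letter, if_true, if_false, one_ne_zero, pow_zero, one_mul]
      simp only [show (n - 21) / 7 = f from rfl, show (n - 21) % 7 = k from rfl]
      rw [big _ _ (Nat.mod_lt _ (by norm_num)) (hF ..), ← H.f21_eq,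
        H.s_mod (show 4 * k % 7 % 7 = (4 * k) % 7 by omega), pow_zero, one_mul]
      calc s ^ (f % 7) * b ^ (f / 7) * w * s ^ k * b
          = s ^ (f % 7) * b ^ (f / 7) * w * (s ^ k * b) := by group
        _ = s ^ (f % 7) * b ^ (f / 7) * (w * b) * s ^ (4 * k) := by rw [H.s_b]; group
        _ = _ := by rw [H.w_b]; group
    · simp only [stepN, h, letter, if_false, OfNat.ofNat_ne_zero, OfNat.ofNat_ne_one]
      simp only [show (n - 21) / 7 = f from rfl, show (n - 21) % 7 = k from rfl]
      by_cases hk : k = 0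
      · simp only [hk, if_true, pow_zero, mul_one, pow_one]
        rw [H.rep_small hf]
        calc s ^ (f % 7) * b ^ (f / 7) * w * w = s ^ (f % 7) * (b ^ (f / 7) * u) := by
              rw [← H.w2]; group
          _ = s ^ (f % 7) * u * b ^ (f / 7) := by rw [← (H.u_comm_pows 0 _).2]; group
          _ = _ := by rw [← (H.u_comm_pows _ 0).1]; group
      · rw [if_neg hk]
        have hk7 : k < 7 := by omega
        have hc : cOf k < 7 := by interval_cases k <;> decide
        rw [big _ _ hc (hF ..), ← H.f21_eq]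
        calc s ^ (f % 7) * b ^ (f / 7) * w * s ^ k * w
            = s ^ (f % 7) * b ^ (f / 7) * (w * s ^ k * w) := by group
          _ = (s ^ (f % 7) * b ^ (f / 7) * u ^ uOf k) * (s ^ cOf k * b ^ dOf k) * w * s ^ cOf k := by
            rw [H.rule (by omega) hk7]; group
          _ = _ := by
            rw [← ((((show Commute u s from H.us).pow_right _).mul_right
              ((show Commute u b from H.ub).pow_right _)).pow_left (uOf k)).eq]
            group

theorem mulWord_eq : ∀ (ws : List ℕ) (st : ℕ × ℕ), (∀ g ∈ ws, g < 3) → st.2 < 168 →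
    u ^ st.1 * rep s b w st.2 * wordVal s b w ws =
      u ^ (mulWord ws st).1 * rep s b w (mulWord ws st).2
  | [], st, _, _ => by simp [wordVal, mulWord]
  | g :: gs, st, hw, h2 => by
    have hg := hw g (List.mem_cons_self ..)
    have h := List.all_eq_true.mp (List.all_eq_true.mp word_small.2 st.2 (List.mem_range.mpr h2)) g
      (List.mem_range.mpr hg)
    simp only [Bool.and_eq_true, decide_eq_true_eq] at h
    have ih := mulWord_eq gs ((st.1 + (stepN g st.2).1) % 2, (stepN g st.2).2)
      (fun x hx => hw x (List.mem_cons_of_mem _ hx)) h.2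
    rw [mulWord, ← ih]
    calc u ^ st.1 * rep s b w st.2 * wordVal s b w (g :: gs)
        = u ^ st.1 * (rep s b w st.2 * letter s b w g) * wordVal s b w gs := by
          simp [wordVal, mul_assoc]
      _ = u ^ (st.1 + (stepN g st.2).1) * rep s b w (stepN g st.2).2 * wordVal s b w gs := by
          rw [H.step hg h2, pow_add]; group
      _ = _ := by
          rw [H.u_mod (show (st.1 + (stepN g st.2).1) % 2 = (st.1 + (stepN g st.2).1) % 2 % 2 by omega)]

theorem rep_mul {i j : ℕ} (hi : i < 168) (hj : j < 168) :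
    rep s b w i * rep s b w j = u ^ (lmulN i j).1 * rep s b w (lmulN i j).2 := by
  rw [lmulN, ← H.mulWord_eq _ (0, i) (wordN_lt hj) hi]
  simp [rep]

end Rels

end CfsgLib.HeUnique.Struct
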