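import Cfsg.Agent.Lib.HeUnique.Struct.Data
import Cfsg.Agent.Lib.HeUnique.Struct.Words
import Cfsg.Agent.Lib.HeUnique.Basic

/-!
The normal forms in the group of invertible three-by-three matrices over the field of two elements.
-/

set_option autoImplicit false
set_option Elab.async false

namespace CfsgLib.HeUnique.Struct

/-- Coded letters. -/
def letA (g : ℕ) : ℕ := [94, 125, 124].getD g 273

/-- The code of a word. -/
def wordA (ws : List ℕ) : ℕ := ws.foldr (fun g A => mm (letA g) A) 273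

theorem slRep_facts : ((List.range 168).all fun n => wordA (wordN n) == slRep.getD n 273) = true ∧
    decide slRep.Nodup = true ∧ slRep.length = 168 ∧
    ((List.range 512).all fun A => !(okA A) || slRep.contains A) = true := by
  decide +kernel

/-- The code of a matrix. -/
def encA (M : Matrix (Fin 3) (Fin 3) (ZMod 2)) : ℕ :=
  (M 0 0).val + 2 * (M 0 1).val + 4 * (M 0 2).val + 8 * (M 1 0).val + 16 * (M 1 1).val +
    32 * (M 1 2).val + 64 * (M 2 0).val + 128 * (M 2 1).val + 256 * (M 2 2).val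

theorem bM_code : ∀ a b c d e f g h i : ZMod 2,
    let A := a.val + 2 * b.val + 4 * c.val + 8 * d.val + 16 * e.val + 32 * f.val + 64 * g.val +
      128 * h.val + 256 * i.val
    A < 512 ∧ bM A 0 0 = a ∧ bM A 0 1 = b ∧ bM A 0 2 = c ∧ bM A 1 0 = d ∧ bM A 1 1 = e ∧
      bM A 1 2 = f ∧ bM A 2 0 = g ∧ bM A 2 1 = h ∧ bM A 2 2 = i := by
  decide +kernel

theorem det_ok_aux : ∀ A : Fin 512,
    (bM A 0 0 * bM A 1 1 * bM A 2 2 - bM A 0 0 * bM A 1 2 * bM A 2 1 -
      bM A 0 1 * bM A 1 0 * bM A 2 2 + bM A 0 1 * bM A 1 2 * bM A 2 0 +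
      bM A 0 2 * bM A 1 0 * bM A 2 1 - bM A 0 2 * bM A 1 1 * bM A 2 0 = 1) ↔ okA A = true := by
  decide +kernel

theorem bM_one : bM 273 = 1 := by
  ext i j
  fin_cases i <;> fin_cases j <;> decide

theorem encA_spec (M : Matrix (Fin 3) (Fin 3) (ZMod 2)) : encA M < 512 ∧ bM (encA M) = M := by
  obtain ⟨hl, h00, h01, h02, h10, h11, h12, h20, h21, h22⟩ := bM_code (M 0 0) (M 0 1) (M 0 2) (M 1 0)
    (M 1 1) (M 1 2) (M 2 0) (M 2 1) (M 2 2)
  refine ⟨hl, ?_⟩
  ext i j
  fin_cases i <;> fin_cases j <;> assumption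

theorem det_bM {A : ℕ} (hA : A < 512) : (bM A).det = 1 ↔ okA A = true := by
  rw [Matrix.det_fin_three]
  exact det_ok_aux ⟨A, hA⟩

/-- A code as an element of the special linear group. -/
def sl3 (A : ℕ) : Matrix.SpecialLinearGroup (Fin 3) (ZMod 2) :=
  if h : (bM A).det = 1 then ⟨bM A, h⟩ else 1

theorem sl3_val {A : ℕ} (hA : A < 512) (ok : okA A = true) :
    (sl3 A : Matrix (Fin 3) (Fin 3) (ZMod 2)) = bM A := by
  simp [sl3, (det_bM hA).mpr ok]

/-- The images of the letters. -/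
def slLetter (g : ℕ) : Matrix.SpecialLinearGroup (Fin 3) (ZMod 2) := sl3 (letA g)

theorem word_val : ∀ ws : List ℕ, (∀ g ∈ ws, g < 3) → wordA ws < 512 ∧
    ((wordVal (slLetter 0) (slLetter 1) (slLetter 2) ws :
      Matrix.SpecialLinearGroup (Fin 3) (ZMod 2)) : Matrix (Fin 3) (Fin 3) (ZMod 2)) = bM (wordA ws)
  | [], _ => ⟨by decide, by simp [wordVal, wordA, bM_one]⟩
  | g :: gs, h => by
    obtain ⟨l, e⟩ := word_val gs (fun x hx => h x (List.mem_cons_of_mem _ hx))
    have hg := h g (List.mem_cons_self ..)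
    have hl : letA g < 512 ∧ okA (letA g) = true := by interval_cases g <;> decide
    obtain ⟨l', e'⟩ := mm_facts hl.1 l
    have hlet : letter (slLetter 0) (slLetter 1) (slLetter 2) g = slLetter g := by
      interval_cases g <;> rfl
    refine ⟨l', ?_⟩
    simp only [wordVal, List.map_cons, List.prod_cons, Matrix.SpecialLinearGroup.coe_mul] at e ⊢
    rw [e, hlet, slLetter, sl3_val hl.1 hl.2]
    exact e'.symm

theorem bM_bits : ∀ A : Fin 512, ∀ i : Fin 9, A.val / 2 ^ i.val % 2 = (bM A.val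
    ⟨i.val / 3, by omega⟩ ⟨i.val % 3, by omega⟩).val := by
  decide +kernel

theorem rep_injective {n m : ℕ} (hn : n < 168) (hm : m < 168)
    (e : rep (slLetter 0) (slLetter 1) (slLetter 2) n = rep (slLetter 0) (slLetter 1) (slLetter 2) m) :
    n = m := by
  obtain ⟨f1, f2, f3, -⟩ := slRep_facts
  simp only [List.all_eq_true, List.mem_range, beq_iff_eq] at f1
  obtain ⟨l1, e1⟩ := word_val _ (wordN_lt hn)
  obtain ⟨l2, e2⟩ := word_val _ (wordN_lt hm)
  have h : bM (wordA (wordN n)) = bM (wordA (wordN m)) := by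
    rw [← e1, ← e2]; exact congrArg _ e
  have hAB : wordA (wordN n) = wordA (wordN m) := by
    refine Nat.eq_of_testBit_eq fun i => ?_
    by_cases hi : i < 9
    · rw [Nat.testBit_eq_decide_div_mod_eq, Nat.testBit_eq_decide_div_mod_eq,
        bM_bits ⟨_, l1⟩ ⟨i, hi⟩, bM_bits ⟨_, l2⟩ ⟨i, hi⟩, h]
    · rw [Nat.testBit_lt_two_pow (l1.trans_le (Nat.pow_le_pow_right (by norm_num) (by omega) :
          2 ^ 9 ≤ 2 ^ i)),
        Nat.testBit_lt_two_pow (l2.trans_le (Nat.pow_le_pow_right (by norm_num) (by omega) :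
          2 ^ 9 ≤ 2 ^ i))]
  rw [f1 n hn, f1 m hm, List.getD_eq_getElem _ _ (f3.symm ▸ hn),
    List.getD_eq_getElem _ _ (f3.symm ▸ hm)] at hAB
  exact ((of_decide_eq_true f2).getElem_inj_iff).mp hAB

theorem rep_surjective (x : Matrix.SpecialLinearGroup (Fin 3) (ZMod 2)) :
    ∃ n < 168, rep (slLetter 0) (slLetter 1) (slLetter 2) n = x := by
  obtain ⟨f1, -, f3, f4⟩ := slRep_facts
  simp only [List.all_eq_true, List.mem_range, beq_iff_eq] at f1
  obtain ⟨hl, he⟩ := encA_spec (x : Matrix (Fin 3) (Fin 3) (ZMod 2))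
  have hok := (det_bM hl).mp (by rw [he]; exact x.2)
  have hm := List.all_eq_true.mp f4 _ (List.mem_range.mpr hl)
  simp only [hok, Bool.not_true, Bool.false_or, List.contains_iff_mem] at hm
  obtain ⟨n, hn, hne⟩ := List.getElem_of_mem hm
  refine ⟨n, f3 ▸ hn, Subtype.ext ?_⟩
  obtain ⟨-, e⟩ := word_val _ (wordN_lt (f3 ▸ hn))
  rw [rep, e, f1 n (f3 ▸ hn), List.getD_eq_getElem _ _ hn, hne, he]

theorem card_sl3 : Nat.card (Matrix.SpecialLinearGroup (Fin 3) (ZMod 2)) = 168 := by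
  let f : Fin 168 → Matrix.SpecialLinearGroup (Fin 3) (ZMod 2) := fun n =>
    rep (slLetter 0) (slLetter 1) (slLetter 2) n
  have hf : Function.Bijective f :=
    ⟨fun a b e => Fin.ext (rep_injective a.2 b.2 e), fun x => by
      obtain ⟨n, hn, e⟩ := rep_surjective x
      exact ⟨⟨n, hn⟩, e⟩⟩
  rw [← Nat.card_congr (Equiv.ofBijective f hf), Nat.card_eq_fintype_card, Fintype.card_fin]

theorem word_eq {ws ws' : List ℕ} (h : ∀ g ∈ ws, g < 3) (h' : ∀ g ∈ ws', g < 3)
    (e : wordA ws = wordA ws') :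
    wordVal (slLetter 0) (slLetter 1) (slLetter 2) ws =
      wordVal (slLetter 0) (slLetter 1) (slLetter 2) ws' :=
  Subtype.ext (by rw [(word_val ws h).2, (word_val ws' h').2, e])

theorem slLetter_rels : slLetter 0 ^ 7 = 1 ∧ slLetter 0 ≠ 1 ∧ slLetter 1 ^ 3 = 1 ∧
    slLetter 1 * slLetter 0 = slLetter 0 * slLetter 0 * slLetter 1 ∧
    slLetter 2 * slLetter 1 = slLetter 1 * slLetter 1 * slLetter 2 ∧
    slLetter 2 * slLetter 2 = 1 ∧
    slLetter 0 * slLetter 2 * (slLetter 0 * slLetter 2) * (slLetter 0 * slLetter 2) = 1 := by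
  have e1 := word_eq (ws := List.replicate 7 0) (ws' := []) (by decide) (by decide) (by decide +kernel)
  have e2 := word_eq (ws := [1, 1, 1]) (ws' := []) (by decide) (by decide) (by decide +kernel)
  have e3 := word_eq (ws := [1, 0]) (ws' := [0, 0, 1]) (by decide) (by decide) (by decide +kernel)
  have e4 := word_eq (ws := [2, 1]) (ws' := [1, 1, 2]) (by decide) (by decide) (by decide +kernel)
  have e5 := word_eq (ws := [2, 2]) (ws' := []) (by decide) (by decide) (by decide +kernel)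
  have e6 := word_eq (ws := [0, 2, 0, 2, 0, 2]) (ws' := []) (by decide) (by decide)
    (by decide +kernel)
  simp [wordVal, letter] at e1 e2 e3 e4 e5 e6
  refine ⟨by simp [pow_succ, mul_assoc, e1], fun h => ?_, by simp [pow_succ, mul_assoc, e2], ?_, ?_,
    e5, ?_⟩
  · have h1 := rep_injective (n := 1) (m := 0) (by norm_num) (by norm_num)
      (by simp [rep, wordVal, wordN, letter, h])
    omega
  · simpa [mul_assoc] using e3
  · simpa [mul_assoc] using e4
  · simpa [mul_assoc] using e6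

end CfsgLib.HeUnique.Struct
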