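import Cfsg.Agent.Lib.HeUnique.Struct.Setup

/-!
The centralizer of an involution with many conjugates in it is that of a transvection.
-/

set_option autoImplicit false

open Cfsg

namespace CfsgLib.HeUnique.Struct

attribute [local irreducible] gmul countUp

section

variable {G : Type*} [Group G] [Finite G] {t : G} {Q : Subgroup G} {s b h k w u : G}

namespace Gen

variable {O : Other} (D : Gen t Q s b h k w u O.wi O.ub)
include D

theorem false_of_many (hO : O.OK)
    (hC : Nat.card (Subgroup.centralizer ({t} : Set G)) = 21504)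
    (hmany : 16 < {y : G | IsConj t y ∧ y * t = t * y}.ncard) : False := by
  classical
  have F := D.frame
  have hs := hO.small
  simp only [Other.smallCheck, Bool.and_eq_true, List.all_eq_true, decide_eq_true_eq,
    Bool.not_eq_true', beq_eq_false_iff_ne, beq_iff_eq, List.mem_range] at hs
  obtain ⟨⟨⟨⟨⟨⟨-, -⟩, hreps⟩, hinv⟩, hclosed⟩, hlive⟩, hE⟩ := hs
  set ι := cι t s b h k w
  have ttwo : orderOf t = 2 := orderOf_eq_prime (by rw [sq, F.t_sq]) F.t_ne
  have isConj_conj : ∀ (g x : G), IsConj t (g * x * g⁻¹) ↔ IsConj t x := fun g x =>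
    ⟨fun e => e.trans (isConj_iff.mpr ⟨g, rfl⟩).symm, fun e => e.trans (isConj_iff.mpr ⟨g, rfl⟩)⟩
  have conj_sq : ∀ {y : G}, IsConj t y → y * y = 1 ∧ y ≠ 1 := by
    intro y hy
    obtain ⟨g, rfl⟩ := isConj_iff.mp hy
    refine ⟨by rw [show g * t * g⁻¹ * (g * t * g⁻¹) = g * (t * t) * g⁻¹ by group, F.t_sq]; group,
      fun e => F.t_ne ?_⟩
    exact conj_eq_one_iff.mp e
  have mulEq : ∀ {x y : ℕ}, x < 21504 → y < 21504 → ι x * ι y = ι (O.mul x y) :=
    fun hx hy => D.cι_mul hx hy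
  have mul_lt : ∀ {x y : ℕ}, x < 21504 → y < 21504 → O.mul x y < 21504 :=
    fun hx hy => D.gmul_lt hx hy
  have rep_lt : ∀ {i}, i < O.reps.length → O.reps.getD i 0 < 21504 ∧
      O.reps.getD i 0 ≠ 1 ∧ ι (O.reps.getD i 0) * ι (O.reps.getD i 0) = 1 := by
    intro i hi
    have hm : O.reps.getD i 0 ∈ O.reps := by
      rw [List.getD_eq_getElem _ _ hi]; exact List.getElem_mem hi
    obtain ⟨⟨⟨l, -⟩, n1⟩, e⟩ := hreps _ hm
    exact ⟨l, n1, by rw [mulEq l l, e]; exact D.cι_zero⟩
  have classify : ∀ {g : G}, g * t = t * g → g * g = 1 → g ≠ 1 → g ≠ t →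
      ∃ e ∈ O.inv, e.2.1 < O.reps.length ∧ ι e.1 = g ∧
        ι e.1 = ι e.2.2 * ι (O.reps.getD e.2.1 0) * (ι e.2.2)⁻¹ := by
    intro g hg g2 g1 gt
    obtain ⟨x, hx, rfl⟩ := D.cι_surj hC hg
    have hxx : O.mul x x = 0 := D.cι_inj (mul_lt hx hx) (by norm_num) (by
      rw [D.cι_zero, ← g2]; exact (mulEq hx hx).symm)
    have hc := CosetEnum.allUp_spec hO.inv x (Nat.zero_le _) (by norm_num; omega)
    simp only [Other.invCheck, hx, decide_true, hxx, beq_self_eq_true, Bool.and_self, cond_true,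
      Bool.or_eq_true, beq_iff_eq, List.any_eq_true] at hc
    rcases hc with (rfl | rfl) | ⟨e, he, rfl⟩
    · exact absurd D.cι_zero g1
    · exact absurd D.cι_one gt
    obtain ⟨⟨⟨-, hi⟩, hw⟩, heq⟩ := hinv e he
    refine ⟨e, he, hi, rfl, ?_⟩
    rw [eq_mul_inv_iff_mul_eq, mulEq hx hw, mulEq hw (rep_lt hi).1, heq]
  let Fu : ℕ → Prop := fun i => IsConj t (ι (O.reps.getD i 0))
  have fused_entry : ∀ {e : ℕ × ℕ × ℕ},
      ι e.1 = ι e.2.2 * ι (O.reps.getD e.2.1 0) * (ι e.2.2)⁻¹ → (IsConj t (ι e.1) ↔ Fu e.2.1) :=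
    fun he => by rw [he]; exact isConj_conj _ _
  have step : ∀ i < O.reps.length, Fu i → ∃ j < O.reps.length, Fu j ∧
      O.n1.getD i 0 = O.n2.getD j 0 := by
    intro i hi hf
    obtain ⟨li, ni, -⟩ := rep_lt hi
    obtain ⟨g, hg⟩ := isConj_iff.mp hf.symm
    have hri : ι (O.reps.getD i 0) * t = t * ι (O.reps.getD i 0) := D.cι_comm _ li
    have hy : g * t * g⁻¹ * t = t * (g * t * g⁻¹) := by
      calc g * t * g⁻¹ * t = g * (t * ι (O.reps.getD i 0)) * g⁻¹ := by rw [← hg]; group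
        _ = g * (ι (O.reps.getD i 0) * t) * g⁻¹ := by rw [hri]
        _ = t * (g * t * g⁻¹) := by rw [← hg]; group
    have hyc : IsConj t (g * t * g⁻¹) := isConj_iff.mpr ⟨g, rfl⟩
    obtain ⟨e, hemem, hj, he1, he2⟩ := classify hy (conj_sq hyc).1 (conj_sq hyc).2 (fun e' => ni (by
      refine D.cι_inj li (by norm_num) ?_
      rw [D.cι_one]
      exact mul_left_cancel (mul_right_cancel (hg.trans e'.symm))))
    refine ⟨e.2.1, hj, (fused_entry he2).mp (he1 ▸ hyc), ?_⟩
    obtain ⟨lj, -, -⟩ := rep_lt hj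
    set r := ι (O.reps.getD e.2.1 0)
    set c := ι e.2.2
    set d := c⁻¹ * g
    have hct : c * t = t * c := by
      by_cases hl : e.2.2 < 21504
      · exact D.cι_comm _ hl
      · exact absurd (hinv e hemem).1.2 hl
    have d1 : d * ι (O.reps.getD i 0) * d⁻¹ = t := by
      calc d * ι (O.reps.getD i 0) * d⁻¹ = c⁻¹ * (g * ι (O.reps.getD i 0) * g⁻¹) * c := by
            simp only [d]; group
        _ = c⁻¹ * (t * c) := by rw [hg]; group
        _ = t := by rw [← hct]; group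
    have d2 : d * t * d⁻¹ = r := by
      calc d * t * d⁻¹ = c⁻¹ * (g * t * g⁻¹) * c := by simp only [d]; group
        _ = c⁻¹ * (c * r * c⁻¹) * c := by rw [← he1, he2]
        _ = r := by group
    obtain ⟨h1, -⟩ := hO.counts i hi
    obtain ⟨-, h2⟩ := hO.counts e.2.1 hj
    simp only [Other.rootTotal, Other.centTotal, beq_iff_eq] at h1 h2
    have c1 := D.root_ncard hC (fun x => x * t = t * x ∧ x * x = ι (O.reps.getD i 0))
      (fun x => O.mul x x == O.reps.getD i 0) (fun x hx => by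
        simp only [beq_iff_eq]
        refine ⟨fun e => ⟨D.cι_comm x hx, by rw [mulEq hx hx, e]⟩, fun e => ?_⟩
        exact D.cι_inj (mul_lt hx hx) li ((mulEq hx hx).symm.trans e.2)) fun _ h => h.1
    have c2 := D.root_ncard hC (fun x => x * t = t * x ∧ x * x = t ∧ x * r = r * x)
      (fun x => O.mul x x == 1 && O.mul x (O.reps.getD e.2.1 0) == O.mul (O.reps.getD e.2.1 0) x)
      (fun x hx => by
        simp only [Bool.and_eq_true, beq_iff_eq]
        refine ⟨fun e' => ⟨D.cι_comm x hx, by rw [mulEq hx hx, e'.1]; exact D.cι_one,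
          by simp only [r]; rw [mulEq hx lj, mulEq lj hx, e'.2]⟩, fun e' => ⟨?_, ?_⟩⟩
        · exact D.cι_inj (mul_lt hx hx) (by norm_num)
            ((mulEq hx hx).symm.trans (e'.2.1.trans D.cι_one.symm))
        · exact D.cι_inj (mul_lt hx lj) (mul_lt lj hx)
            ((mulEq hx lj).symm.trans (e'.2.2.trans (mulEq lj hx)))) fun _ h => h.1
    rw [← h1, ← h2, ← c1, ← c2, ← Set.ncard_image_of_injective _ (MulAut.conj d).injective]
    congr 1
    ext z
    simp only [Set.mem_image, Set.mem_setOf_eq, MulAut.conj_apply]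
    constructor
    · rintro ⟨x, ⟨hxt, hx2⟩, rfl⟩
      have hz2 : d * x * d⁻¹ * (d * x * d⁻¹) = t := by
        rw [show d * x * d⁻¹ * (d * x * d⁻¹) = d * (x * x) * d⁻¹ by group, hx2, d1]
      refine ⟨?_, hz2, ?_⟩
      · rw [← hz2]; group
      · calc d * x * d⁻¹ * r = d * (x * t) * d⁻¹ := by rw [← d2]; group
          _ = d * (t * x) * d⁻¹ := by rw [hxt]
          _ = r * (d * x * d⁻¹) := by rw [← d2]; group
    · rintro ⟨hzt, hz2, hzr⟩
      refine ⟨d⁻¹ * z * d, ⟨?_, ?_⟩, by group⟩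
      · calc d⁻¹ * z * d * t = d⁻¹ * (z * r) * d := by rw [← d2]; group
          _ = d⁻¹ * (r * z) * d := by rw [hzr]
          _ = t * (d⁻¹ * z * d) := by rw [← d2]; group
      · calc d⁻¹ * z * d * (d⁻¹ * z * d) = d⁻¹ * (z * z) * d := by group
          _ = ι (O.reps.getD i 0) := by rw [hz2, ← d1]; group
  have hsub : ∀ i < O.reps.length, Fu i → i ∈ O.live := by
    set n := O.reps.length
    set m := Nat.ofBits fun i : Fin n => decide (Fu i.val)
    have hm : ∀ i < n, m.testBit i = decide (Fu i) := fun i hi =>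
      Nat.testBit_ofBits_lt (fun i : Fin n => decide (Fu i.val)) i hi
    intro i hi hf
    have hc := hclosed m (Nat.ofBits_lt_two_pow _)
    simp only [Bool.or_eq_true, Bool.not_eq_true', List.all_eq_false, List.all_eq_true,
      List.mem_range] at hc
    rcases hc with ⟨i', hi', hne⟩ | hc
    · exfalso
      simp only [Bool.or_eq_true, Bool.not_eq_true', List.any_eq_true, Bool.and_eq_true,
        beq_iff_eq, List.mem_range, not_or, not_exists, not_and] at hne
      have hF : Fu i' := by simpa [hm i' hi'] using hne.1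
      obtain ⟨j, hj, hFj, hn⟩ := step i' hi' hF
      exact hne.2 j hj (by rw [hm j hj]; simpa using hFj) hn
    · rcases hc i hi with h | h
      · simp [hm i hi, hf] at h
      · simpa using h
  by_cases hnone : ∀ i < O.reps.length, ¬ Fu i
  · have hsub1 : {y : G | IsConj t y ∧ y * t = t * y} ⊆ {t} := by
      rintro y ⟨hy, hc⟩
      by_contra hyt
      obtain ⟨e, he, hi, he1, he2⟩ := classify hc (conj_sq hy).1 (conj_sq hy).2 hyt
      exact hnone _ hi ((fused_entry he2).mp (he1 ▸ hy))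
    have := Set.ncard_le_ncard hsub1 (Set.toFinite _)
    rw [Set.ncard_singleton] at this
    omega
  push Not at hnone
  obtain ⟨l, hl, hFl⟩ := hnone
  have hlm := hsub l hl hFl
  simp only [Bool.or_eq_true, Bool.and_eq_true, List.all_eq_true, decide_eq_true_eq, beq_iff_eq,
    List.contains_iff_mem, List.isEmpty_iff] at hE
  rcases hE with hE | hE
  · rw [hE] at hlm
    exact absurd hlm List.not_mem_nil
  obtain ⟨⟨⟨⟨⟨⟨⟨hE16, -⟩, -⟩, hE1⟩, -⟩, -⟩, hEcls⟩, -⟩ := hE
  have hsub2 : {y : G | IsConj t y ∧ y * t = t * y} ⊆ ι '' (O.E.toFinset : Set ℕ) := by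
    rintro y ⟨hy, hc⟩
    by_cases hyt : y = t
    · exact ⟨1, by simpa using hE1, by rw [hyt]; exact D.cι_one⟩
    obtain ⟨e, he, hi, he1, he2⟩ := classify hc (conj_sq hy).1 (conj_sq hy).2 hyt
    have hl'' := hsub _ hi ((fused_entry he2).mp (he1 ▸ hy))
    refine ⟨e.1, ?_, he1⟩
    have hh := hEcls e he
    simp only [List.coe_toFinset, Set.mem_setOf_eq]
    by_contra hne
    simp [hne, hl''] at hh
  have := (Set.ncard_le_ncard hsub2 (Set.toFinite _)).trans (Set.ncard_image_le (Finset.finite_toSet _))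
  rw [Set.ncard_coe_finset] at this
  have := this.trans (List.toFinset_card_le _)
  omega

end Gen

end

theorem exists_rep_many {G : Type*} [Group G] [Finite G] (t : G)
    (ht : orderOf t = 2) (C : Subgroup G) (hCdef : C = Subgroup.centralizer ({t} : Set G))
    (Q : Subgroup C) [Q.Normal]
    (hQ : IsExtraspecial 2 Q) (hcard : Nat.card Q = 2 ^ 7)
    (h2c : Subgroup.centralizer (Q : Set C) ≤ Q)
    (e : C ⧸ Q ≃* Matrix.SpecialLinearGroup (Fin 3) (ZMod 2))
    (hmany : 16 < {y : G | IsConj t y ∧ y * t = t * y}.ncard) : ∃ ι : ℕ → G, Rep t ι := by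
  classical
  haveI : Fact (Nat.Prime 2) := ⟨Nat.prime_two⟩
  haveI : Fact (Nat.Prime 3) := ⟨Nat.prime_three⟩
  haveI : Fact (Nat.Prime 7) := ⟨by norm_num⟩
  let π : C →* Matrix.SpecialLinearGroup (Fin 3) (ZMod 2) :=
    e.toMonoidHom.comp (QuotientGroup.mk' Q)
  have hπs : Function.Surjective π := e.surjective.comp (QuotientGroup.mk'_surjective Q)
  have hπ : ∀ x : C, π x = 1 ↔ x ∈ Q := fun x => by
    show e (QuotientGroup.mk' Q x) = 1 ↔ _
    rw [MulEquiv.map_eq_one_iff]
    exact QuotientGroup.eq_one_iff x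
  have hC : Nat.card C = 21504 := by
    rw [Subgroup.card_eq_card_quotient_mul_card_subgroup Q, Nat.card_congr e.toEquiv, card_sl3,
      hcard]
    norm_num
  have memC : ∀ {g : G}, g ∈ C ↔ g * t = t * g := by
    intro g
    rw [hCdef]
    exact Subgroup.mem_centralizer_singleton_iff
  have hC' : Nat.card (Subgroup.centralizer ({t} : Set G)) = 21504 := hCdef ▸ hC
  let tC : C := ⟨t, memC.mpr rfl⟩
  have tcen : ∀ c : C, c * tC = tC * c := fun c => Subtype.ext (memC.mp c.2)
  have t2 : t * t = 1 := by rw [← pow_two, ← ht, pow_orderOf_eq_one]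
  have t1 : t ≠ 1 := fun h => by rw [h, orderOf_one] at ht; norm_num at ht
  have tQ : tC ∈ Q := h2c (Subgroup.mem_centralizer_iff.mpr fun q _ => tcen q)
  have cen2 : ∀ q : Q, q ∈ Subgroup.center Q → (((q : C) : G) = 1 ∨ ((q : C) : G) = t) := by
    intro q hq
    obtain ⟨a, b, hab, he⟩ := Nat.card_eq_two_iff.mp hQ.2
    have hall : ∀ w : Subgroup.center Q, w = a ∨ w = b := fun w => by
      have : w ∈ ({a, b} : Set (Subgroup.center Q)) := by rw [he]; exact Set.mem_univ _
      simpa using this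
    have i1 : (1 : Q) ∈ Subgroup.center Q := Subgroup.one_mem _
    have it : (⟨tC, tQ⟩ : Q) ∈ Subgroup.center Q :=
      Subgroup.mem_center_iff.mpr fun x => Subtype.ext (tcen x)
    have val : ∀ {u v : Subgroup.center Q}, u = v →
        (((u : Q) : C) : G) = (((v : Q) : C) : G) := fun h => by rw [h]
    rcases hall ⟨_, i1⟩ with e1 | e1 <;> rcases hall ⟨_, it⟩ with e2 | e2 <;>
      rcases hall ⟨_, hq⟩ with e3 | e3
    all_goals first
      | exact Or.inl (val (e3.trans e1.symm))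
      | exact Or.inr (val (e3.trans e2.symm))
      | exact absurd (val (e2.trans e1.symm)) t1
  set Qg := Q.map C.subtype
  have hQg : ∀ c : C, (c : G) ∈ Qg ↔ c ∈ Q := fun c =>
    Subgroup.mem_map_iff_mem C.subtype_injective
  have hex : ∀ {g : G}, g ∈ Qg → ∃ c : C, c ∈ Q ∧ (c : G) = g := fun hg => hg
  have B : Base t Qg := by
    refine ⟨t2, t1, (hQg tC).mpr tQ, ?_, ?_, ?_, ?_, ?_, ?_⟩
    · intro q hq
      obtain ⟨c, -, rfl⟩ := hex hq
      exact memC.mp c.2
    · intro c hc q hq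
      obtain ⟨q', hq', rfl⟩ := hex hq
      exact (hQg (⟨c, memC.mpr hc⟩ * q' * ⟨c, memC.mpr hc⟩⁻¹)).mpr
        (‹Q.Normal›.conj_mem q' hq' _)
    · intro c hc hcq
      set c' : C := ⟨c, memC.mpr hc⟩
      have hcQ : c' ∈ Q := h2c (Subgroup.mem_centralizer_iff.mpr fun q hq =>
        Subtype.ext (hcq q ((hQg q).mpr hq)).symm)
      exact cen2 ⟨c', hcQ⟩ (Subgroup.mem_center_iff.mpr fun x =>
        Subtype.ext (Subtype.ext (hcq _ ((hQg x).mpr x.2)).symm))
    · intro q hq
      obtain ⟨q', hq', rfl⟩ := hex hq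
      have h := cen2 _ (Extraspecial.pow_mem_center hQ ⟨q', hq'⟩)
      simpa [pow_two] using h
    · intro a ha b hb
      obtain ⟨a', ha', rfl⟩ := hex ha
      obtain ⟨b', hb', rfl⟩ := hex hb
      have h := cen2 _ (Extraspecial.comm_mem hQ ⟨a', ha'⟩⁻¹ ⟨b', hb'⟩⁻¹)
      simp only [commutatorElement_def, Subgroup.coe_mul, Subgroup.coe_inv, inv_inv] at h
      show (a' : G) * b' = b' * a' ∨ (a' : G) * b' = b' * a' * t
      rw [show (a' : G) * b' = b' * a' * ((a' : G)⁻¹ * (b' : G)⁻¹ * a' * b') by group]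
      rcases h with h | h <;> rw [h]
      · left; rw [mul_one]
      · right; rfl
    · rw [Subgroup.card_map_of_injective C.subtype_injective, hcard]; norm_num
  obtain ⟨r1, r1n, r2, r3, r4, r5, r6⟩ := slLetter_rels
  have hsmall : ∀ {x : C}, x ∈ Q → x ^ 4 = 1 := by
    intro x hx
    apply Subtype.ext
    have e4 : ((x ^ 4 : C) : G) = (x : G) * x * ((x : G) * x) := by
      simp [pow_succ, mul_assoc]
    rw [e4, Subgroup.coe_one]
    rcases B.sq _ ((hQg x).mpr hx) with h | h <;> rw [h]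
    · rw [one_mul]
    · exact t2
  have hodd : ∀ {p : ℕ}, p ∣ 2 ^ 7 → p = 3 ∨ p = 7 → False := by
    rintro p hd (rfl | rfl) <;> norm_num at hd
  have hn3 : ¬ 3 ∣ Nat.card Q := fun h => hodd (hcard ▸ h) (Or.inl rfl)
  have hn7 : ¬ 7 ∣ Nat.card Q := fun h => hodd (hcard ▸ h) (Or.inr rfl)
  have inQ : ∀ {x y : C}, π x = π y → x * y⁻¹ ∈ Q := fun {x y} h =>
    (hπ _).mp (by rw [map_mul, map_inv, h, mul_inv_cancel])
  obtain ⟨x7, hx7⟩ := hπs (slLetter 0)
  obtain ⟨s, hs_def⟩ : ∃ s, s = x7 ^ 8 := ⟨_, rfl⟩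
  have hs : π s = slLetter 0 := by
    rw [hs_def, map_pow, hx7, show (8 : ℕ) = 7 + 1 from rfl, pow_succ, r1, one_mul]
  have s7 : s ^ 7 = 1 := by
    rw [hs_def, ← pow_mul, show 8 * 7 = 7 * 4 * 2 by norm_num, pow_mul, pow_mul,
      hsmall ((hπ _).mp (by rw [map_pow, hx7, r1])), one_pow]
  obtain ⟨x3, hx3⟩ := hπs (slLetter 1)
  obtain ⟨q3, hq3, e3⟩ := exists_conj_in Q hn7 (y := x3 * s * x3⁻¹) (z := s ^ 2)
    (by rw [conj_pow, s7]; group) (by rw [← pow_mul, mul_comm, pow_mul, s7, one_pow])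
    (inQ (by rw [map_mul, map_mul, map_inv, map_pow, hx3, hs, r3, pow_two]; group))
  set c3 := q3⁻¹ * x3
  have hc3 : c3 * s * c3⁻¹ = s ^ 2 := by
    calc c3 * s * c3⁻¹ = q3⁻¹ * (x3 * s * x3⁻¹ * q3) := by simp only [c3]; group
      _ = q3⁻¹ * (q3 * s ^ 2) := by rw [e3]
      _ = s ^ 2 := by group
  have πc3 : π c3 = slLetter 1 := by
    simp only [c3, map_mul, map_inv, (hπ q3).mpr hq3, inv_one, one_mul, hx3]
  obtain ⟨b, hb_def⟩ : ∃ b, b = c3 ^ 4 := ⟨_, rfl⟩
  have hb : π b = slLetter 1 := by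
    rw [hb_def, map_pow, πc3, show (4 : ℕ) = 3 + 1 from rfl, pow_succ, r2, one_mul]
  have b3 : b ^ 3 = 1 := by
    rw [hb_def, ← pow_mul, show 4 * 3 = 3 * 4 by norm_num, pow_mul]
    exact hsmall ((hπ _).mp (by rw [map_pow, πc3, r2]))
  have conj_iter : ∀ n : ℕ, c3 ^ n * s * (c3 ^ n)⁻¹ = s ^ 2 ^ n := by
    intro n
    induction n with
    | zero => simp
    | succ n ih =>
      calc c3 ^ (n + 1) * s * (c3 ^ (n + 1))⁻¹ = c3 * (c3 ^ n * s * (c3 ^ n)⁻¹) * c3⁻¹ := by
            rw [pow_succ']; group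
        _ = (c3 * s * c3⁻¹) ^ 2 ^ n := by rw [ih, conj_pow]
        _ = s ^ 2 ^ (n + 1) := by rw [hc3, ← pow_mul, pow_succ, mul_comm]
  have bs : b * s * b⁻¹ = s ^ 2 := by
    rw [hb_def, conj_iter, pow_eq_pow_mod _ s7]; rfl
  obtain ⟨xw, hxw⟩ := hπs (slLetter 2)
  have hbinv : π b⁻¹ = slLetter 1 * slLetter 1 := by
    rw [map_inv, hb]
    refine inv_eq_of_mul_eq_one_right ?_
    rw [← r2, pow_succ, pow_two, mul_assoc]
  obtain ⟨qw, hqw, ew⟩ := exists_conj_in Q hn3 (y := xw * b * xw⁻¹) (z := b⁻¹)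
    (by rw [conj_pow, b3]; group) (by rw [inv_pow, b3, inv_one])
    (inQ (by rw [map_mul, map_mul, map_inv, hb, hxw, hbinv, r4]; group))
  set w := qw⁻¹ * xw
  have wb : w * b * w⁻¹ = b⁻¹ := by
    calc w * b * w⁻¹ = qw⁻¹ * (xw * b * xw⁻¹ * qw) := by simp only [w]; group
      _ = qw⁻¹ * (qw * b⁻¹) := by rw [ew]
      _ = b⁻¹ := by group
  have hw : π w = slLetter 2 := by
    simp only [w, map_mul, map_inv, (hπ qw).mpr hqw, inv_one, one_mul, hxw]
  have T : Twenty t Qg s b :=
    { toBase := B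
      s7 := by rw [← Subgroup.coe_pow, s7, Subgroup.coe_one]
      s_t := memC.mp s.2
      s_ne := fun h => r1n (by rw [← hs, show s = 1 from Subtype.ext h, map_one])
      b_t := memC.mp b.2
      b3 := by rw [← Subgroup.coe_pow, b3, Subgroup.coe_one]
      bs := by rw [← Subgroup.coe_inv, ← Subgroup.coe_mul, ← Subgroup.coe_mul, bs, Subgroup.coe_pow] }
  obtain ⟨h, k, hf, kf, P, pat⟩ := T.exists_bases
  have F : Frame t Qg s b h k := { toTwenty := T, hfix := hf, kfix := kf, pair := P, pattern := pat }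
  obtain ⟨w', im, him, w't, w'b, w'act, w'cube, w'sq, qd, hqd, hw'⟩ := F.exists_third (w := (w : G)) (memC.mp w.2)
    (by rw [← Subgroup.coe_inv, ← Subgroup.coe_mul, ← Subgroup.coe_mul, wb, Subgroup.coe_inv])
    ((hQg (w * w)).mpr ((hπ _).mp (by rw [map_mul, hw, r5])))
    ((hQg ((s * w) ^ 3)).mpr ((hπ _).mp (by rw [map_pow, map_mul, hs, hw, pow_succ, pow_two, r6])))
  obtain ⟨qd', hqd', rfl⟩ := hex hqd
  set wc : C := ⟨w', memC.mpr w't⟩
  have hwc : π wc = slLetter 2 := by
    rw [show wc = w * qd' from Subtype.ext hw', map_mul, (hπ qd').mpr hqd', hw, mul_one]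
  obtain ⟨wi, hwi, hime⟩ : ∃ wi < 3, imW wi = im := by
    obtain ⟨i, hi, e⟩ := List.getElem_of_mem him
    exact ⟨i, hi, by rw [imW, List.getD_eq_getElem _ _ hi, e]⟩
  obtain ⟨ub, hub, hu⟩ : ∃ ub < 2, w' * w' = t ^ ub := by
    rcases w'sq with h | h
    · exact ⟨0, by norm_num, by rw [h, pow_zero]⟩
    · exact ⟨1, by norm_num, by rw [h, pow_one]⟩
  have hut : ∀ {g : G}, g * t = t * g → w' * w' * g = g * (w' * w') := by
    intro g hg
    rw [hu]; exact ((show Commute t g from hg.symm).pow_left ub).eq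
  have D : Gen t Qg s b h k w' (w' * w') wi ub :=
    { frame := F
      rels :=
        { s7 := T.s7
          b3 := T.b3
          bs := T.bs
          wb := w'b
          w2 := rfl
          cube := w'cube
          u2 := by rw [hu, ← pow_add, pow_eq_pow_mod _ (show t ^ 2 = 1 by rw [sq, t2]),
            show (ub + ub) % 2 = 0 by omega, pow_zero]
          us := hut T.s_t
          ub := hut T.b_t }
      wi_lt := hwi
      ub_lt := hub
      w_t := w't
      acts := hime.symm ▸ w'act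
      u_eq := hu
      sep := by
        intro n m hn hm q hq e
        obtain ⟨q', hq', rfl⟩ := hex hq
        rw [show w' = C.subtype wc from rfl, show (s : G) = C.subtype s from rfl,
          show (b : G) = C.subtype b from rfl, ← rep_map, ← rep_map] at e
        have e' : rep s b wc n = q' * rep s b wc m := C.subtype_injective (by rw [map_mul]; exact e)
        have e'' := congrArg π e'
        rw [map_mul, (hπ q').mpr hq', one_mul, rep_map, rep_map, hs, hb, hwc] at e''
        exact rep_injective hn hm e'' }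
  interval_cases wi <;> interval_cases ub
  · exact ⟨_, D.toRep hC'⟩
  · exact (Gen.false_of_many (O := other0) D other0_ok hC' hmany).elim
  · exact (Gen.false_of_many (O := other1) D other1_ok hC' hmany).elim
  · exact (Gen.false_of_many (O := other2) D other2_ok hC' hmany).elim
  · exact (Gen.false_of_many (O := other3) D other3_ok hC' hmany).elim
  · exact (Gen.false_of_many (O := other4) D other4_ok hC' hmany).elim


end CfsgLib.HeUnique.Struct
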