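import Cfsg.Agent.Lib.HeUnique.Struct.Coords
import Cfsg.Agent.Lib.CosetEnum.Basic

/-!
The action of the three generators on `Q`.
-/

set_option autoImplicit false

namespace CfsgLib.HeUnique.Struct

/-- The six basis codes. -/
def gens6 : List ℕ := [16, 32, 64, 2, 4, 8]

/-- Power of a code along a bit. -/
def qbit (x : ℕ) : ℕ → ℕ
  | 0 => 0
  | _ + 1 => x

/-- The map given by the images of the basis. -/
def act (im : List ℕ) (q : ℕ) : ℕ :=
  qmul (qmul (qmul (qmul (qbit (im.getD 3 0) (bit (fS q) 0)) (qbit (im.getD 4 0) (bit (fS q) 1)))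
      (qbit (im.getD 5 0) (bit (fS q) 2)))
    (qmul (qmul (qbit (im.getD 0 0) (bit (fR q) 0)) (qbit (im.getD 1 0) (bit (fR q) 1)))
      (qbit (im.getD 2 0) (bit (fR q) 2)))) (fC q)

/-- The table of the element of order seven. -/
def imS : List ℕ := [64, 96, 112, 12, 6, 2]

/-- The table of the element of order three. -/
def imB : List ℕ := [64, 48, 80, 14, 4, 6]

/-- The inverse of the second table. -/
def bInv (q : ℕ) : ℕ := act imB (act imB q)

/-- The images under a candidate for the third generator. -/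
def imOf (a0 a1 b0 b1 : ℕ) : List ℕ :=
  [a1, qmul a0 (bInv a1), bInv a1, qmul b0 b1, b0, qmul (qmul b0 b1) (bInv b1)]

/-- Codes fixed by the element of order three. -/
def fixB : List ℕ := [0, 1, 4, 5, 96, 97, 100, 101]

/-- The three tables up to normalisation. -/
def repsW : List (List ℕ) :=
  [[64, 112, 16, 12, 4, 6], [64, 113, 16, 29, 4, 71], [67, 125, 29, 12, 5, 7]]

/-- Conjugation inside `Q`. -/
def qconj (q g : ℕ) : ℕ := bif qmul q g == qmul g q then g else g.xor 1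

/-- Necessary conditions for a candidate. -/
def candOK (im : List ℕ) : Bool :=
  (im.all fun x => decide (x < 128) && qmul x x == 0) &&
  (gens6.all fun g => act im (act imB g) == bInv (act im g)) &&
  ((List.range 6).all fun i => (List.range 6).all fun j =>
    qmul (im.getD i 0) (im.getD j 0) == act im (qmul (gens6.getD i 0) (gens6.getD j 0))) &&
  (gens6.all fun g => act im (act im g) / 2 == g / 2) &&
  (gens6.all fun g =>
    act imS (act im (act imS (act im (act imS (act im g))))) / 2 == g / 2)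

/-- A candidate can be normalised. -/
def normOK (im : List ℕ) : Bool :=
  fixB.any fun q => repsW.contains (gens6.map fun g => act im (qconj q g))

/-- The quick conditions on the four images. -/
def quickOK (a0 a1 b0 b1 : ℕ) : Bool :=
  qmul b0 b0 == 0 && qmul b1 b1 == 0 && qmul b0 b1 == qmul b1 b0 &&
    !(qmul a0 b0 == qmul b0 a0) && !(qmul a0 b1 == qmul b1 a0) && qmul a1 b0 == qmul b0 a1 &&
    !(qmul a1 b1 == qmul b1 a1)

theorem fix_list : ∀ q : Fin 128, act imB q = q → q.val ∈ fixB := by decide +kernel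

theorem fixB_facts : (fixB.all fun q => decide (q < 128) && act imB q == q) = true := by
  decide +kernel

theorem reps_facts : (repsW.all fun im =>
    (im.all fun x => decide (x < 128)) && (List.range 128).all fun q =>
      act im (act imB q) == bInv (act im q) && act im (act im q) == q &&
        act imS (act im (act imS (act im (act imS (act im q))))) == q) = true := by
  decide +kernel

theorem act_lt : ∀ im ∈ [imS, imB], ∀ q : Fin 128, act im q < 128 := by decide +kernel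

theorem central_codes : ∀ q : Fin 128, (∀ g ∈ gens6, qmul q g = qmul g q) → q.val < 2 := by
  decide +kernel

theorem qconj_ok : ∀ q g : Fin 128, qconj q g < 128 ∧ qmul (qconj q g) q = qmul q g := by
  decide +kernel

theorem half_cases : ∀ a b : Fin 128, a.val / 2 = b.val / 2 → a = b ∨ a.val = qmul b 1 := by
  decide +kernel

theorem qmul_lt {x y : ℕ} (hx : x < 128) (hy : y < 128) : qmul x y < 128 :=
  (qfields_ok ⟨x, hx⟩ ⟨y, hy⟩).1

theorem gens6_lt : ∀ i < 6, gens6.getD i 0 < 128 := by decide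

variable {G : Type*} [Group G]

/-- An element acting by a table. -/
def ActsBy (t s h k g : G) (im : List ℕ) : Prop :=
  ∀ q, q < 128 → act im q < 128 ∧ g * ιQ t s h k q * g⁻¹ = ιQ t s h k (act im q)

namespace Frame

variable {t : G} {Q : Subgroup G} {s b h k : G} (F : Frame t Q s b h k)
include F

theorem ιQ_gens : (∀ i : Fin 3, ιQ t s h k (gens6.getD i.val 0) = rGen s h i) ∧
    ∀ i : Fin 3, ιQ t s h k (gens6.getD (i.val + 3) 0) = sGen s k i := by
  constructor <;> intro i <;> fin_cases i <;> simp [gens6, ιQ, P3, fS, fR, fC, bit]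

theorem ιQ_qbit {x : ℕ} (hx : x < 128) (n : ℕ) (hn : n < 2) :
    qbit x n < 128 ∧ ιQ t s h k (qbit x n) = ιQ t s h k x ^ n := by
  interval_cases n
  · exact ⟨by simp [qbit], by simp [qbit, F.ιQ_zero]⟩
  · exact ⟨hx, by simp [qbit]⟩

theorem actsBy {g : G} (hg : g * t = t * g) {im : List ℕ} (hlt : ∀ i < 6, im.getD i 0 < 128)
    (him : ∀ i < 6, g * ιQ t s h k (gens6.getD i 0) * g⁻¹ = ιQ t s h k (im.getD i 0)) :
    ActsBy t s h k g im := by
  intro q hq
  have bl : ∀ (u : ℕ), u < 8 → ∀ i : Fin 3, bit u i < 2 := fun u hu i => (bit_xor ⟨u, hu⟩ ⟨u, hu⟩ i).2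
  have bS := bl _ (fS_lt q)
  have bR := bl _ (fR_lt q)
  obtain ⟨l3, e3⟩ := F.ιQ_qbit (hlt 3 (by norm_num)) (bit (fS q) 0) (bS 0)
  obtain ⟨l4, e4⟩ := F.ιQ_qbit (hlt 4 (by norm_num)) (bit (fS q) 1) (bS 1)
  obtain ⟨l5, e5⟩ := F.ιQ_qbit (hlt 5 (by norm_num)) (bit (fS q) 2) (bS 2)
  obtain ⟨l0, e0⟩ := F.ιQ_qbit (hlt 0 (by norm_num)) (bit (fR q) 0) (bR 0)
  obtain ⟨l1, e1⟩ := F.ιQ_qbit (hlt 1 (by norm_num)) (bit (fR q) 1) (bR 1)
  obtain ⟨l2, e2⟩ := F.ιQ_qbit (hlt 2 (by norm_num)) (bit (fR q) 2) (bR 2)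
  have lc : fC q < 128 := lt_of_lt_of_le (fC_lt q) (by norm_num)
  have lA := qmul_lt (qmul_lt l3 l4) l5
  have lB := qmul_lt (qmul_lt l0 l1) l2
  refine ⟨qmul_lt (qmul_lt lA lB) lc, ?_⟩
  have et : ιQ t s h k (fC q) = t ^ fC q := by
    have := fC_lt q
    generalize fC q = c at this ⊢
    interval_cases c
    · simpa using F.ιQ_zero
    · simpa using F.ιQ_t
  have hgt : g * t ^ fC q * g⁻¹ = t ^ fC q := by
    rw [((show Commute g t from hg).pow_right _).eq, mul_inv_cancel_right]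
  rw [act, ← F.ιQ_mul (qmul_lt lA lB) lc, ← F.ιQ_mul lA lB, ← F.ιQ_mul (qmul_lt l3 l4) l5,
    ← F.ιQ_mul l3 l4, ← F.ιQ_mul (qmul_lt l0 l1) l2, ← F.ιQ_mul l0 l1, e0, e1, e2, e3, e4, e5, et]
  conv_lhs => rw [show g * ιQ t s h k q * g⁻¹ = MulAut.conj g (ιQ t s h k q) from rfl, ιQ]
  simp only [P3, map_mul, map_pow, MulAut.conj_apply]
  rw [show g * t * g⁻¹ = t by rw [hg, mul_inv_cancel_right]]
  have r := F.ιQ_gens
  rw [← r.1 0, ← r.1 1, ← r.1 2, ← r.2 0, ← r.2 1, ← r.2 2]
  simp only [Fin.val_zero, Fin.val_one, Fin.val_two, him _ (by norm_num : 0 < 6),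
    him _ (by norm_num : 1 < 6), him _ (by norm_num : 2 < 6), him _ (by norm_num : 0 + 3 < 6),
    him _ (by norm_num : 1 + 3 < 6), him _ (by norm_num : 2 + 3 < 6)]

/-- Rules to sort products in the two elementary abelian parts. -/
theorem sort_rules :
    (∀ i x, sh s i h * (h * x) = h * (sh s i h * x)) ∧ (∀ i, sh s i h * h = h * sh s i h) ∧
    (∀ x, sh s 2 h * (sh s 1 h * x) = sh s 1 h * (sh s 2 h * x)) ∧
    sh s 2 h * sh s 1 h = sh s 1 h * sh s 2 h ∧
    (∀ i x, sh s i h * (sh s i h * x) = x) ∧ (∀ i, sh s i h * sh s i h = 1) ∧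
    (∀ x, h * (h * x) = x) ∧ h * h = 1 ∧
    (∀ i x, sh s i k * (k * x) = k * (sh s i k * x)) ∧ (∀ i, sh s i k * k = k * sh s i k) ∧
    (∀ x, sh s 2 k * (sh s 1 k * x) = sh s 1 k * (sh s 2 k * x)) ∧
    sh s 2 k * sh s 1 k = sh s 1 k * sh s 2 k ∧
    (∀ i x, sh s i k * (sh s i k * x) = x) ∧ (∀ i, sh s i k * sh s i k = 1) ∧
    (∀ x, k * (k * x) = x) ∧ k * k = 1 := by
  refine ⟨fun i x => ?_, fun i => (F.c0H i).symm, fun x => ?_, F.cH 2 1, fun i x => ?_, F.sqH,
    fun x => ?_, F.pair.exH.sq, fun i x => ?_, fun i => (F.c0K i).symm, fun x => ?_, F.cK 2 1,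
    fun i x => ?_, F.sqK, fun x => ?_, F.pair.exK.sq⟩ <;> simp only [← mul_assoc]
  · rw [F.c0H i]
  · rw [F.cH 2 1]
  · rw [F.sqH, one_mul]
  · rw [F.pair.exH.sq, one_mul]
  · rw [F.c0K i]
  · rw [F.cK 2 1]
  · rw [F.sqK, one_mul]
  · rw [F.pair.exK.sq, one_mul]

theorem actsS : ActsBy t s h k s imS := by
  refine F.actsBy F.s_t (by decide) fun i hi => ?_
  have q : ∀ x, x < 128 → ιQ t s h k x = ιQ t s h k x := fun _ _ => rfl
  have e : ∀ n x, s * sh s n x * s⁻¹ = sh s (n + 1) x := fun n x => by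
    rw [add_comm, ← sh_add]; simp [sh]
  have e0 : ∀ x, s * x * s⁻¹ = sh s 1 x := fun x => by simp [sh]
  have eH := F.pair.exH.rec3
  have eK := F.kRec
  have m : ∀ x y, s * (x * y) * s⁻¹ = s * x * s⁻¹ * (s * y * s⁻¹) := fun x y => by group
  obtain ⟨r1, r2, r3, r4, r5, r6, r7, r8, r9, r10, r11, r12, r13, r14, r15, r16⟩ := F.sort_rules
  interval_cases i <;>
    simp [gens6, imS, ιQ, P3, fS, fR, fC, bit, rGen, sGen, m, e, e0, eH, eK,
      mul_assoc, r1, r2, r3, r4, r5, r6, r7, r8, r9, r10, r11, r12, r13, r14, r15, r16]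

theorem actsB : ActsBy t s h k b imB := by
  refine F.actsBy F.b_t (by decide) fun i hi => ?_
  have e : ∀ n, b * sh s n h * b⁻¹ = sh s (2 * n) h := fun n => by rw [F.b_sh, F.hfix]
  have e' : ∀ n, b * sh s n k * b⁻¹ = sh s (2 * n) k := fun n => by rw [F.b_sh, F.kfix]
  have m : ∀ x y, b * (x * y) * b⁻¹ = b * x * b⁻¹ * (b * y * b⁻¹) := fun x y => by group
  have h4 : sh s 4 h = sh s 2 h * sh s 1 h := by
    have := (F.exact_shift F.pair.exH 1).rec3
    simpa only [sh_add] using this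
  have k4 : sh s 4 k = sh s 2 k * k * sh s 1 k := by
    have := congrArg (sh s 1) F.kRec
    simp only [sh_mul, sh_add, Nat.reduceAdd] at this
    rw [this, F.kRec]
  obtain ⟨r1, r2, r3, r4, r5, r6, r7, r8, r9, r10, r11, r12, r13, r14, r15, r16⟩ := F.sort_rules
  interval_cases i <;>
    simp [gens6, imB, ιQ, P3, fS, fR, fC, bit, rGen, sGen, m, e, e', F.hfix, F.kfix, h4, k4,
      mul_assoc, r1, r2, r3, r4, r5, r6, r7, r8, r9, r10, r11, r12, r13, r14, r15, r16]

end Frame

end CfsgLib.HeUnique.Struct
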