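import Cfsg.Agent.Lib.HeUnique.Struct.Act

/-!
The finite search for the action of the third generator.
-/

set_option autoImplicit false

namespace CfsgLib.HeUnique.Struct

/-- The check for the first image. -/
noncomputable def candScan (a0 : ℕ) : Bool :=
  CosetEnum.allUp (fun a1 => bif qmul a1 a1 == 0 && qmul a0 a1 == qmul a1 a0 then
    fixB.all fun b0 => CosetEnum.allUp (fun b1 =>
      bif quickOK a0 a1 b0 b1 && candOK (imOf a0 a1 b0 b1) then normOK (imOf a0 a1 b0 b1) else true) 7 0
    else true) 7 0

set_option Elab.async false in
theorem cand_0 : candScan 0 = true := by decide +kernel
set_option Elab.async false in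
theorem cand_1 : candScan 1 = true := by decide +kernel
set_option Elab.async false in
theorem cand_4 : candScan 4 = true := by decide +kernel
set_option Elab.async false in
theorem cand_5 : candScan 5 = true := by decide +kernel
set_option Elab.async false in
theorem cand_96 : candScan 96 = true := by decide +kernel
set_option Elab.async false in
theorem cand_97 : candScan 97 = true := by decide +kernel
set_option Elab.async false in
theorem cand_100 : candScan 100 = true := by decide +kernel
set_option Elab.async false in
theorem cand_101 : candScan 101 = true := by decide +kernel

end CfsgLib.HeUnique.Struct
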