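import Cfsg.Agent.Lib.HeUnique.Struct.Fixed
import Cfsg.Agent.Lib.HeUnique.Model

/-!
Coordinates on `Q`.
-/

set_option autoImplicit false

namespace CfsgLib.HeUnique.Struct

/-- The product of two coordinate vectors. -/
def qmul (x y : ℕ) : ℕ :=
  (fR x).xor (fR y) * 16 + (fS x).xor (fS y) * 2 + (fC x + fC y + par ((fR x).land (fS y))) % 2

/-- The identity of `Q` is the zero code. -/
theorem qfields_ok : ∀ x y : Fin 128, qmul x y < 128 ∧
    fR (qmul x y) = (fR x).xor (fR y) ∧ fS (qmul x y) = (fS x).xor (fS y) ∧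
    fC (qmul x y) = (fC x + fC y + par ((fR x).land (fS y))) % 2 := by
  decide +kernel

theorem bit_xor : ∀ u v : Fin 8, ∀ i : Fin 3,
    bit (u.val.xor v) i = (bit u i + bit v i) % 2 ∧ bit u i < 2 := by
  decide +kernel

theorem par_land : ∀ u v : Fin 8, ((par (u.val.land v) : ℕ) : ZMod 2) =
    (bit u 0 : ℕ) * (bit v 0 : ℕ) + (bit u 1 : ℕ) * (bit v 1 : ℕ) + (bit u 2 : ℕ) * (bit v 2 : ℕ) := by
  decide +kernel

variable {G : Type*} [Group G]

/-- Product of powers of three elements along the bits. -/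
def P3 (a0 a1 a2 : G) (r : ℕ) : G := a0 ^ bit r 0 * a1 ^ bit r 1 * a2 ^ bit r 2

/-- The adapted frame. -/
structure Frame (t : G) (Q : Subgroup G) (s b h k : G) : Prop extends Twenty t Q s b where
  hfix : b * h * b⁻¹ = h
  kfix : b * k * b⁻¹ = k
  pair : Pair t Q s h k
  pattern : (fun i : Fin 7 => β (sh s i.val h) k) = ![1, 0, 0, 1, 0, 1, 1]

/-- The basis. -/
def rGen (s h : G) : Fin 3 → G := ![sh s 1 h, h * sh s 2 h, sh s 2 h]

/-- The dual basis. -/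
def sGen (s k : G) : Fin 3 → G := ![k * sh s 1 k, k, k * sh s 1 k * sh s 2 k]

/-- The element of a code. -/
def ιQ (t s h k : G) (q : ℕ) : G :=
  P3 (sGen s k 0) (sGen s k 1) (sGen s k 2) (fS q) *
    P3 (rGen s h 0) (rGen s h 1) (rGen s h 2) (fR q) * t ^ fC q

namespace Frame

variable {t : G} {Q : Subgroup G} {s b h k : G} (F : Frame t Q s b h k)
include F

theorem mH (i : ℕ) : sh s i h ∈ Q := F.sh_mem F.pair.exH.mem i
theorem mK (i : ℕ) : sh s i k ∈ Q := F.sh_mem F.pair.exK.mem i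

theorem cH (i j : ℕ) : sh s i h * sh s j h = sh s j h * sh s i h := F.exact_comm F.pair.exH i j
theorem cK (i j : ℕ) : sh s i k * sh s j k = sh s j k * sh s i k :=
  β_eq_zero.mp (F.pair.shK_iso i j)

theorem c0H (j : ℕ) : h * sh s j h = sh s j h * h := by
  have := F.cH 0 j; rwa [sh_zero] at this

theorem c0K (j : ℕ) : k * sh s j k = sh s j k * k := by
  have := F.cK 0 j; rwa [sh_zero] at this

theorem sqH (i : ℕ) : sh s i h * sh s i h = 1 := by rw [← sh_mul, F.pair.exH.sq]; simp [sh]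
theorem sqK (i : ℕ) : sh s i k * sh s i k = 1 := by rw [← sh_mul, F.pair.exK.sq]; simp [sh]

theorem val_HK (i j : ℕ) : β (sh s i h) (sh s j k) =
    (![1, 0, 0, 1, 0, 1, 1] : Fin 7 → ZMod 2) ⟨(i + 6 * j) % 7, Nat.mod_lt _ (by norm_num)⟩ := by
  rw [β_symm, F.β_shift, β_symm, ← F.pattern]

theorem kRec : sh s 3 k = sh s 2 k * k := by
  have e := F.pair.exK.rec3
  have e3 : (s⁻¹) ^ 3 = s ^ 4 := by
    rw [inv_pow, inv_eq_iff_mul_eq_one, ← pow_add]; exact F.s7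
  have e1 : (s⁻¹) ^ 1 = s ^ 6 := by
    rw [inv_pow, inv_eq_iff_mul_eq_one, ← pow_add]; exact F.s7
  rw [show sh s⁻¹ 3 k = sh s 4 k by simp only [sh, e3],
    show sh s⁻¹ 1 k = sh s 6 k by simp only [sh, e1]] at e
  have h2 := congrArg (sh s 3) e
  simp only [sh_mul, sh_add, Nat.reduceAdd] at h2
  rw [← sh_mod F.s7 7, ← sh_mod F.s7 9, Nat.mod_self, sh_zero] at h2
  simp only [Nat.reduceMod] at h2
  have := congrArg (fun x => sh s 2 k * x) h2
  simp only [← mul_assoc, F.sqK, one_mul] at this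
  exact this.symm

theorem rGen_mem (i : Fin 3) : rGen s h i ∈ Q := by
  fin_cases i
  exacts [F.mH 1, Q.mul_mem F.pair.exH.mem (F.mH 2), F.mH 2]

theorem sGen_mem (i : Fin 3) : sGen s k i ∈ Q := by
  fin_cases i
  exacts [Q.mul_mem F.pair.exK.mem (F.mK 1), F.pair.exK.mem,
    Q.mul_mem (Q.mul_mem F.pair.exK.mem (F.mK 1)) (F.mK 2)]

theorem P3_mem {a0 a1 a2 : G} (h0 : a0 ∈ Q) (h1 : a1 ∈ Q) (h2 : a2 ∈ Q) (r : ℕ) :
    P3 a0 a1 a2 r ∈ Q :=
  Q.mul_mem (Q.mul_mem (Q.pow_mem h0 _) (Q.pow_mem h1 _)) (Q.pow_mem h2 _)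

theorem β_iso_r (i j : Fin 3) : β (rGen s h i) (rGen s h j) = 0 := by
  have hh : ∀ n m, β (sh s n h) (sh s m h) = 0 := fun n m => β_eq_zero.mpr (F.cH n m)
  have h0 : ∀ m, β h (sh s m h) = 0 := fun m => β_eq_zero.mpr (F.c0H m)
  have h0' : ∀ m, β (sh s m h) h = 0 := fun m => by rw [β_symm]; exact h0 m
  have m := F.mH; have m0 := F.pair.exH.mem
  fin_cases i <;> fin_cases j <;>
    simp only [rGen, Fin.zero_eta, Fin.isValue, Fin.mk_one, Fin.reduceFinMk, Matrix.cons_val] <;>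
    simp [hh, h0, h0', F.β_mul_left, F.β_mul_right, m, m0, Q.mul_mem, β_self]

theorem β_iso_s (i j : Fin 3) : β (sGen s k i) (sGen s k j) = 0 := by
  have hh : ∀ n m, β (sh s n k) (sh s m k) = 0 := fun n m => β_eq_zero.mpr (F.cK n m)
  have h0 : ∀ m, β k (sh s m k) = 0 := fun m => β_eq_zero.mpr (F.c0K m)
  have h0' : ∀ m, β (sh s m k) k = 0 := fun m => by rw [β_symm]; exact h0 m
  have m := F.mK; have m0 := F.pair.exK.mem
  fin_cases i <;> fin_cases j <;>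
    simp only [sGen, Fin.zero_eta, Fin.isValue, Fin.mk_one, Fin.reduceFinMk, Matrix.cons_val] <;>
    simp [hh, h0, h0', F.β_mul_left, F.β_mul_right, m, m0, Q.mul_mem, β_self]

theorem β_rs (i j : Fin 3) : β (rGen s h i) (sGen s k j) = if i = j then 1 else 0 := by
  have hk : ∀ n, β h (sh s n k) = (![1, 0, 0, 1, 0, 1, 1] : Fin 7 → ZMod 2)
      ⟨(0 + 6 * n) % 7, Nat.mod_lt _ (by norm_num)⟩ := fun n => by
    have := F.val_HK 0 n; rwa [sh_zero] at this
  have kk : ∀ n, β (sh s n h) k = (![1, 0, 0, 1, 0, 1, 1] : Fin 7 → ZMod 2)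
      ⟨(n + 6 * 0) % 7, Nat.mod_lt _ (by norm_num)⟩ := fun n => by
    have := F.val_HK n 0; rwa [sh_zero] at this
  have h00 : β h k = 1 := by
    have := F.val_HK 0 0; simp only [sh_zero] at this; rw [this]; rfl
  have m := F.mK; have m0 := F.pair.exK.mem
  have n := F.mH; have n0 := F.pair.exH.mem
  fin_cases i <;> fin_cases j <;>
    simp only [rGen, sGen, Fin.zero_eta, Fin.isValue, Fin.mk_one, Fin.reduceFinMk,
      Matrix.cons_val] <;>
    simp [F.val_HK, hk, kk, h00, F.β_mul_left, F.β_mul_right, m, m0, n, n0, Q.mul_mem] <;>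
    decide

theorem sq_r (i : Fin 3) : rGen s h i * rGen s h i = 1 := by
  fin_cases i
  · exact F.sqH 1
  · show h * sh s 2 h * (h * sh s 2 h) = 1
    calc h * sh s 2 h * (h * sh s 2 h) = h * (sh s 2 h * h) * sh s 2 h := by group
      _ = h * (h * sh s 2 h) * sh s 2 h := by rw [F.c0H]
      _ = h * h * (sh s 2 h * sh s 2 h) := by group
      _ = 1 := by rw [F.pair.exH.sq, F.sqH, one_mul]
  · exact F.sqH 2

theorem sq_mul_comm {x y : G} (hx : x * x = 1) (hy : y * y = 1) (h : x * y = y * x) :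
    x * y * (x * y) = 1 := by
  calc x * y * (x * y) = x * (y * x) * y := by group
    _ = x * (x * y) * y := by rw [h]
    _ = x * x * (y * y) := by group
    _ = 1 := by rw [hx, hy, one_mul]

theorem sq_s (i : Fin 3) : sGen s k i * sGen s k i = 1 := by
  have a := F.sq_mul_comm F.pair.exK.sq (F.sqK 1) (F.c0K 1)
  fin_cases i
  · exact a
  · exact F.pair.exK.sq
  · exact F.sq_mul_comm a (F.sqK 2)
      ((show Commute k (sh s 2 k) from F.c0K 2).mul_left (F.cK 1 2)).eq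

theorem pow_bit {x : G} (hx : x * x = 1) (m n : ℕ) : x ^ m * x ^ n = x ^ ((m + n) % 2) := by
  rw [← pow_add]
  exact pow_eq_pow_mod _ (by rw [sq, hx])

theorem P3_mul {a : Fin 3 → G} (hc : ∀ i j, a i * a j = a j * a i) (hs : ∀ i, a i * a i = 1)
    {u v : ℕ} (hu : u < 8) (hv : v < 8) :
    P3 (a 0) (a 1) (a 2) u * P3 (a 0) (a 1) (a 2) v = P3 (a 0) (a 1) (a 2) (u.xor v) := by
  have e := fun i : Fin 3 => (bit_xor ⟨u, hu⟩ ⟨v, hv⟩ i).1
  simp only [P3]
  rw [show bit (u.xor v) 0 = _ from e 0, show bit (u.xor v) 1 = _ from e 1,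
    show bit (u.xor v) 2 = _ from e 2, ← F.pow_bit (hs 0), ← F.pow_bit (hs 1), ← F.pow_bit (hs 2)]
  have c01 : Commute (a 1 ^ bit u 1) (a 0 ^ bit v 0) := (show Commute (a 1) (a 0) from hc 1 0).pow_pow _ _
  have c02 : Commute (a 2 ^ bit u 2) (a 0 ^ bit v 0) := (show Commute (a 2) (a 0) from hc 2 0).pow_pow _ _
  have c12 : Commute (a 2 ^ bit u 2) (a 1 ^ bit v 1) := (show Commute (a 2) (a 1) from hc 2 1).pow_pow _ _
  simp only [Fin.val_zero, Fin.val_one, Fin.val_two]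
  calc _ = a 0 ^ bit u 0 * a 1 ^ bit u 1 * ((a 2 ^ bit u 2 * a 0 ^ bit v 0) * a 1 ^ bit v 1) *
        a 2 ^ bit v 2 := by group
    _ = a 0 ^ bit u 0 * (a 1 ^ bit u 1 * a 0 ^ bit v 0) * (a 2 ^ bit u 2 * a 1 ^ bit v 1) *
        a 2 ^ bit v 2 := by rw [c02.eq]; group
    _ = _ := by rw [c01.eq, c12.eq]; group

theorem β_pow {x y : G} (hx : x ∈ Q) (hy : y ∈ Q) (n : ℕ) : β (x ^ n) y = (n : ZMod 2) * β x y := by
  induction n with
  | zero => rw [pow_zero, Nat.cast_zero, zero_mul, ← tp_zero t]; exact F.β_tp_left 0 hy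
  | succ n ih => rw [pow_succ, F.β_mul_left (Q.pow_mem hx n) hx hy, ih]; push_cast; ring

theorem β_P3 {a : Fin 3 → G} (ha : ∀ i, a i ∈ Q) {y : G} (hy : y ∈ Q) (r : ℕ) :
    β (P3 (a 0) (a 1) (a 2) r) y = (bit r 0 : ℕ) * β (a 0) y + (bit r 1 : ℕ) * β (a 1) y +
      (bit r 2 : ℕ) * β (a 2) y := by
  simp only [P3]
  rw [F.β_mul_left (Q.mul_mem (Q.pow_mem (ha 0) _) (Q.pow_mem (ha 1) _)) (Q.pow_mem (ha 2) _) hy,
    F.β_mul_left (Q.pow_mem (ha 0) _) (Q.pow_mem (ha 1) _) hy, F.β_pow (ha 0) hy, F.β_pow (ha 1) hy,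
    F.β_pow (ha 2) hy]

theorem rs_swap {u v : ℕ} (hu : u < 8) (hv : v < 8) :
    β (P3 (rGen s h 0) (rGen s h 1) (rGen s h 2) u) (P3 (sGen s k 0) (sGen s k 1) (sGen s k 2) v) =
      ((par (u.land v) : ℕ) : ZMod 2) := by
  have mr := F.rGen_mem; have ms := F.sGen_mem
  rw [F.β_P3 mr (F.P3_mem (ms 0) (ms 1) (ms 2) v), β_symm (rGen s h 0), β_symm (rGen s h 1),
    β_symm (rGen s h 2), F.β_P3 ms (mr 0), F.β_P3 ms (mr 1), F.β_P3 ms (mr 2)]
  simp only [β_symm (sGen s k _), F.β_rs]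
  rw [show ((par (u.land v) : ℕ) : ZMod 2) = _ from par_land ⟨u, hu⟩ ⟨v, hv⟩]
  simp

theorem ιQ_mem (q : ℕ) : ιQ t s h k q ∈ Q :=
  Q.mul_mem (Q.mul_mem (F.P3_mem (F.sGen_mem 0) (F.sGen_mem 1) (F.sGen_mem 2) _)
    (F.P3_mem (F.rGen_mem 0) (F.rGen_mem 1) (F.rGen_mem 2) _)) (Q.pow_mem F.t_mem _)

theorem ιQ_mul {x y : ℕ} (hx : x < 128) (hy : y < 128) :
    ιQ t s h k x * ιQ t s h k y = ιQ t s h k (qmul x y) := by
  obtain ⟨-, e1, e2, e3⟩ := qfields_ok ⟨x, hx⟩ ⟨y, hy⟩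
  simp only at e1 e2 e3
  simp only [ιQ, e1, e2, e3]
  have cs : ∀ i j, sGen s k i * sGen s k j = sGen s k j * sGen s k i := fun i j =>
    β_eq_zero.mp (F.β_iso_s i j)
  have cr : ∀ i j, rGen s h i * rGen s h j = rGen s h j * rGen s h i := fun i j =>
    β_eq_zero.mp (F.β_iso_r i j)
  rw [← F.P3_mul cs F.sq_s (fS_lt x) (fS_lt y), ← F.P3_mul cr F.sq_r (fR_lt x) (fR_lt y)]
  set S1 := P3 (sGen s k 0) (sGen s k 1) (sGen s k 2) (fS x)
  set S2 := P3 (sGen s k 0) (sGen s k 1) (sGen s k 2) (fS y)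
  set R1 := P3 (rGen s h 0) (rGen s h 1) (rGen s h 2) (fR x)
  set R2 := P3 (rGen s h 0) (rGen s h 1) (rGen s h 2) (fR y)
  have mS2 : S2 ∈ Q := F.P3_mem (F.sGen_mem 0) (F.sGen_mem 1) (F.sGen_mem 2) _
  have mR1 : R1 ∈ Q := F.P3_mem (F.rGen_mem 0) (F.rGen_mem 1) (F.rGen_mem 2) _
  have mR2 : R2 ∈ Q := F.P3_mem (F.rGen_mem 0) (F.rGen_mem 1) (F.rGen_mem 2) _
  have hsw : R1 * S2 = S2 * R1 * t ^ par ((fR x).land (fS y)) := by
    rw [F.swap mR1 mS2, F.rs_swap (fR_lt x) (fS_lt y)]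
    congr 1
    have : par ((fR x).land (fS y)) < 2 := (xor_facts ⟨_, fR_lt x⟩ ⟨_, fS_lt y⟩).2.1
    generalize par ((fR x).land (fS y)) = p at this
    interval_cases p
    · simp [tp]
    · simp [tp]
  have ct : ∀ n (z : G), z ∈ Q → t ^ n * z = z * t ^ n := fun n z hz =>
    ((show Commute z t from F.comm_t z hz).pow_right n).symm.eq
  set p := par ((fR x).land (fS y))
  calc S1 * R1 * t ^ fC x * (S2 * R2 * t ^ fC y)
      = S1 * R1 * (t ^ fC x * (S2 * R2)) * t ^ fC y := by group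
    _ = S1 * (R1 * S2) * R2 * (t ^ fC x * t ^ fC y) := by rw [ct _ _ (Q.mul_mem mS2 mR2)]; group
    _ = S1 * S2 * R1 * (t ^ p * R2) * (t ^ fC x * t ^ fC y) := by rw [hsw]; group
    _ = S1 * S2 * (R1 * R2) * (t ^ p * (t ^ fC x * t ^ fC y)) := by rw [ct _ _ mR2]; group
    _ = _ := by
      rw [← pow_add, ← pow_add, pow_eq_pow_mod _ (show t ^ 2 = 1 by rw [sq, F.t_sq])]
      congr 2
      omega

theorem ιQ_zero : ιQ t s h k 0 = 1 := by simp [ιQ, P3, fS, fR, fC, bit]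

theorem ιQ_t : ιQ t s h k 1 = t := by simp [ιQ, P3, fS, fR, fC, bit]

theorem ιQ_inj {x y : ℕ} (hx : x < 128) (hy : y < 128) (e : ιQ t s h k x = ιQ t s h k y) :
    x = y := by
  have val : ∀ q, q < 128 → ∀ j : Fin 3,
      β (ιQ t s h k q) (sGen s k j) = (bit (fR q) j : ℕ) ∧
      β (ιQ t s h k q) (rGen s h j) = (bit (fS q) j : ℕ) := by
    intro q hq j
    have mr := F.rGen_mem; have ms := F.sGen_mem
    have mS := F.P3_mem (ms 0) (ms 1) (ms 2) (fS q)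
    have mR := F.P3_mem (mr 0) (mr 1) (mr 2) (fR q)
    have ht : ∀ z ∈ Q, β (t ^ fC q) z = 0 := fun z hz => by
      rw [F.β_pow F.t_mem hz, ← tp_one t, F.β_tp_left 1 hz, mul_zero]
    simp only [ιQ]
    constructor
    · rw [F.β_mul_left (Q.mul_mem mS mR) (Q.pow_mem F.t_mem _) (ms j), F.β_mul_left mS mR (ms j),
        ht _ (ms j), F.β_P3 ms (ms j), F.β_P3 mr (ms j)]
      simp only [F.β_iso_s, F.β_rs]
      fin_cases j <;> simp
    · rw [F.β_mul_left (Q.mul_mem mS mR) (Q.pow_mem F.t_mem _) (mr j), F.β_mul_left mS mR (mr j),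
        ht _ (mr j), F.β_P3 ms (mr j), F.β_P3 mr (mr j)]
      simp only [β_symm (sGen s k _), F.β_iso_r, F.β_rs]
      fin_cases j <;> simp
  have hb : ∀ u v : Fin 8, (∀ j : Fin 3, ((bit u j : ℕ) : ZMod 2) = (bit v j : ℕ)) → u = v := by
    decide +kernel
  have eR : fR x = fR y := congrArg Fin.val (hb ⟨_, fR_lt x⟩ ⟨_, fR_lt y⟩ fun j => by
    rw [← (val x hx j).1, ← (val y hy j).1, e])
  have eS : fS x = fS y := congrArg Fin.val (hb ⟨_, fS_lt x⟩ ⟨_, fS_lt y⟩ fun j => by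
    rw [← (val x hx j).2, ← (val y hy j).2, e])
  simp only [ιQ, eR, eS, mul_right_inj] at e
  have eC : fC x = fC y := by
    have hcx := fC_lt x; have hcy := fC_lt y
    generalize fC x = a at e hcx ⊢
    generalize fC y = b at e hcy ⊢
    interval_cases a <;> interval_cases b <;> first
      | rfl
      | exact absurd (by simpa using e) F.t_ne
      | exact absurd (by simpa using e.symm) F.t_ne
  simp only [fR, fS, fC] at eR eS eC
  omega

theorem ιQ_surj [Finite G] {g : G} (hg : g ∈ Q) : ∃ q < 128, ιQ t s h k q = g := by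
  let f : Fin 128 → Q := fun q => ⟨ιQ t s h k q, F.ιQ_mem q⟩
  have hf : Function.Bijective f := (Nat.bijective_iff_injective_and_card f).mpr
    ⟨fun a b e => Fin.ext (F.ιQ_inj a.2 b.2 (congrArg Subtype.val e)), by
      rw [F.card, Nat.card_eq_fintype_card, Fintype.card_fin]⟩
  obtain ⟨q, hq⟩ := hf.2 ⟨g, hg⟩
  exact ⟨q.val, q.2, congrArg Subtype.val hq⟩

end Frame

end CfsgLib.HeUnique.Struct
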