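import Cfsg.Agent.Lib.HeUnique.Struct.OtherDefs
import Cfsg.Agent.Lib.ZStar.Main

/-!
The other centralizers do not occur in a simple group of the order of the Held group.
-/

set_option autoImplicit false

open Cfsg

namespace CfsgLib.HeUnique.Struct

attribute [local irreducible] gmul countUp

variable {G : Type*} [Group G] [Finite G] {t : G} {Q : Subgroup G} {s b h k w u : G}

theorem not_isolated_simple [IsSimpleGroup G] (F : Frame t Q s b h k) :
    ¬ IsIsolatedInvolution t := by
  intro hz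
  have hcomm := ZStar.commutatorsInCore_of_isolated hz
  rcases IsSimpleGroup.eq_bot_or_eq_top_of_normal (pPrimeCore 2 G)
      (Transfer.pPrimeCore_normal 2 G) |>.symm with e | e
  · have hodd := ZStar.odd_card_core (G := G)
    rw [e, Subgroup.card_top] at hodd
    have hd : 2 ∣ Nat.card G := hz.1 ▸ orderOf_dvd_natCard t
    exact (Nat.not_even_iff_odd.mpr hodd) (even_iff_two_dvd.mpr hd)
  · have hc : ∀ g : G, g * t = t * g := fun g => by
      have hg := hcomm g
      rw [e, Subgroup.mem_bot] at hg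
      calc g * t = (t * g * t⁻¹ * g⁻¹)⁻¹ * (t * g) := by group
        _ = t * g := by rw [hg]; group
    rcases IsSimpleGroup.eq_bot_or_eq_top_of_normal (Subgroup.center G) inferInstance |>.symm
      with e' | e'
    · have hcm : ιQ t s h k 16 * ιQ t s h k 2 = ιQ t s h k 2 * ιQ t s h k 16 :=
        Subgroup.mem_center_iff.mp (e' ▸ Subgroup.mem_top (ιQ t s h k 2)) _
      rw [F.ιQ_mul (by norm_num) (by norm_num), F.ιQ_mul (by norm_num) (by norm_num)] at hcm
      exact absurd (F.ιQ_inj (qmul_lt (by norm_num) (by norm_num))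
        (qmul_lt (by norm_num) (by norm_num)) hcm) (by decide +kernel)
    · exact F.t_ne (Subgroup.mem_bot.mp (e' ▸ Subgroup.mem_center_iff.mpr hc))

namespace Gen

variable {O : Other} (D : Gen t Q s b h k w u O.wi O.ub)
include D

theorem root_ncard (hC : Nat.card (Subgroup.centralizer ({t} : Set G)) = 21504)
    (P : G → Prop) (p : ℕ → Bool) (hp : ∀ x < 21504, (p x = true ↔ P (cι t s b h k w x)))
    (hP : ∀ g, P g → g * t = t * g) :
    {g | P g}.ncard = countUp (fun x => decide (x < 21504) && p x) 15 0 := by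
  classical
  rw [countUp_eq]
  set L := (List.range' 0 (2 ^ 15)).filter fun x => decide (x < 21504) && p x
  have hL : ∀ x ∈ L, x < 21504 ∧ p x = true := fun x hx => by
    simpa using (List.mem_filter.mp hx).2
  have e : {g | P g} = cι t s b h k w '' (L.toFinset : Set ℕ) := by
    ext g
    simp only [Set.mem_setOf_eq, Set.mem_image, List.coe_toFinset]
    constructor
    · intro hg
      obtain ⟨x, hx, rfl⟩ := D.cι_surj hC (hP g hg)
      refine ⟨x, List.mem_filter.mpr ⟨?_, by simp [hx, (hp x hx).mpr hg]⟩, rfl⟩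
      rw [List.mem_range'_1]
      norm_num
      omega
    · rintro ⟨x, hx, rfl⟩
      exact (hp x (hL x hx).1).mp (hL x hx).2
  rw [e, Set.InjOn.ncard_image, Set.ncard_coe_finset,
    List.toFinset_card_of_nodup (List.Nodup.filter _ List.nodup_range')]
  intro x hx y hy hxy
  simp only [List.coe_toFinset, Set.mem_setOf_eq] at hx hy
  exact D.cι_inj (hL x hx).1 (hL y hy).1 hxy

theorem false_of_order [IsSimpleGroup G] (hO : O.OK)
    (hC : Nat.card (Subgroup.centralizer ({t} : Set G)) = 21504)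
    (hG : Nat.card G = 4030387200) : False := by
  classical
  have F := D.frame
  have hs := hO.small
  simp only [Other.smallCheck, Bool.and_eq_true, List.all_eq_true, decide_eq_true_eq,
    Bool.not_eq_true', beq_eq_false_iff_ne, beq_iff_eq, List.mem_range] at hs
  obtain ⟨⟨⟨⟨⟨⟨-, -⟩, hreps⟩, hinv⟩, hclosed⟩, hlive⟩, hE⟩ := hs
  set ι := cι t s b h k w
  have ttwo : orderOf t = 2 := orderOf_eq_prime (by rw [sq, F.t_sq]) F.t_ne
  have isConj_conj : ∀ (g x : G), IsConj t (g * x * g⁻¹) ↔ IsConj t x := fun g x =>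
    ⟨fun e => e.trans (isConj_iff.mpr ⟨g, rfl⟩).symm, fun e => e.trans (isConj_iff.mpr ⟨g, rfl⟩)⟩
  have conj_sq : ∀ {y : G}, IsConj t y → y * y = 1 ∧ y ≠ 1 := by
    intro y hy
    obtain ⟨g, rfl⟩ := isConj_iff.mp hy
    refine ⟨by rw [show g * t * g⁻¹ * (g * t * g⁻¹) = g * (t * t) * g⁻¹ by group, F.t_sq]; group,
      fun e => F.t_ne ?_⟩
    exact conj_eq_one_iff.mp e
  have mulEq : ∀ {x y : ℕ}, x < 21504 → y < 21504 → ι x * ι y = ι (O.mul x y) :=
    fun hx hy => D.cι_mul hx hy
  have mul_lt : ∀ {x y : ℕ}, x < 21504 → y < 21504 → O.mul x y < 21504 :=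
    fun hx hy => D.gmul_lt hx hy
  have rep_lt : ∀ {i}, i < O.reps.length → O.reps.getD i 0 < 21504 ∧
      O.reps.getD i 0 ≠ 1 ∧ ι (O.reps.getD i 0) * ι (O.reps.getD i 0) = 1 := by
    intro i hi
    have hm : O.reps.getD i 0 ∈ O.reps := by
      rw [List.getD_eq_getElem _ _ hi]; exact List.getElem_mem hi
    obtain ⟨⟨⟨l, -⟩, n1⟩, e⟩ := hreps _ hm
    exact ⟨l, n1, by rw [mulEq l l, e]; exact D.cι_zero⟩
  have classify : ∀ {g : G}, g * t = t * g → g * g = 1 → g ≠ 1 → g ≠ t →
      ∃ e ∈ O.inv, e.2.1 < O.reps.length ∧ ι e.1 = g ∧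
        ι e.1 = ι e.2.2 * ι (O.reps.getD e.2.1 0) * (ι e.2.2)⁻¹ := by
    intro g hg g2 g1 gt
    obtain ⟨x, hx, rfl⟩ := D.cι_surj hC hg
    have hxx : O.mul x x = 0 := D.cι_inj (mul_lt hx hx) (by norm_num) (by
      rw [D.cι_zero, ← g2]; exact (mulEq hx hx).symm)
    have hc := CosetEnum.allUp_spec hO.inv x (Nat.zero_le _) (by norm_num; omega)
    simp only [Other.invCheck, hx, decide_true, hxx, beq_self_eq_true, Bool.and_self, cond_true,
      Bool.or_eq_true, beq_iff_eq, List.any_eq_true] at hc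
    rcases hc with (rfl | rfl) | ⟨e, he, rfl⟩
    · exact absurd D.cι_zero g1
    · exact absurd D.cι_one gt
    obtain ⟨⟨⟨-, hi⟩, hw⟩, heq⟩ := hinv e he
    refine ⟨e, he, hi, rfl, ?_⟩
    rw [eq_mul_inv_iff_mul_eq, mulEq hx hw, mulEq hw (rep_lt hi).1, heq]
  let Fu : ℕ → Prop := fun i => IsConj t (ι (O.reps.getD i 0))
  have fused_entry : ∀ {e : ℕ × ℕ × ℕ},
      ι e.1 = ι e.2.2 * ι (O.reps.getD e.2.1 0) * (ι e.2.2)⁻¹ → (IsConj t (ι e.1) ↔ Fu e.2.1) :=
    fun he => by rw [he]; exact isConj_conj _ _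
  have step : ∀ i < O.reps.length, Fu i → ∃ j < O.reps.length, Fu j ∧
      O.n1.getD i 0 = O.n2.getD j 0 := by
    intro i hi hf
    obtain ⟨li, ni, -⟩ := rep_lt hi
    obtain ⟨g, hg⟩ := isConj_iff.mp hf.symm
    have hri : ι (O.reps.getD i 0) * t = t * ι (O.reps.getD i 0) := D.cι_comm _ li
    have hy : g * t * g⁻¹ * t = t * (g * t * g⁻¹) := by
      calc g * t * g⁻¹ * t = g * (t * ι (O.reps.getD i 0)) * g⁻¹ := by rw [← hg]; group
        _ = g * (ι (O.reps.getD i 0) * t) * g⁻¹ := by rw [hri]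
        _ = t * (g * t * g⁻¹) := by rw [← hg]; group
    have hyc : IsConj t (g * t * g⁻¹) := isConj_iff.mpr ⟨g, rfl⟩
    obtain ⟨e, hemem, hj, he1, he2⟩ := classify hy (conj_sq hyc).1 (conj_sq hyc).2 (fun e' => ni (by
      refine D.cι_inj li (by norm_num) ?_
      rw [D.cι_one]
      exact mul_left_cancel (mul_right_cancel (hg.trans e'.symm))))
    refine ⟨e.2.1, hj, (fused_entry he2).mp (he1 ▸ hyc), ?_⟩
    obtain ⟨lj, -, -⟩ := rep_lt hj
    set r := ι (O.reps.getD e.2.1 0)
    set c := ι e.2.2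
    set d := c⁻¹ * g
    have hct : c * t = t * c := by
      by_cases hl : e.2.2 < 21504
      · exact D.cι_comm _ hl
      · exact absurd (hinv e hemem).1.2 hl
    have d1 : d * ι (O.reps.getD i 0) * d⁻¹ = t := by
      calc d * ι (O.reps.getD i 0) * d⁻¹ = c⁻¹ * (g * ι (O.reps.getD i 0) * g⁻¹) * c := by
            simp only [d]; group
        _ = c⁻¹ * (t * c) := by rw [hg]; group
        _ = t := by rw [← hct]; group
    have d2 : d * t * d⁻¹ = r := by
      calc d * t * d⁻¹ = c⁻¹ * (g * t * g⁻¹) * c := by simp only [d]; group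
        _ = c⁻¹ * (c * r * c⁻¹) * c := by rw [← he1, he2]
        _ = r := by group
    obtain ⟨h1, -⟩ := hO.counts i hi
    obtain ⟨-, h2⟩ := hO.counts e.2.1 hj
    simp only [Other.rootTotal, Other.centTotal, beq_iff_eq] at h1 h2
    have c1 := D.root_ncard hC (fun x => x * t = t * x ∧ x * x = ι (O.reps.getD i 0))
      (fun x => O.mul x x == O.reps.getD i 0) (fun x hx => by
        simp only [beq_iff_eq]
        refine ⟨fun e => ⟨D.cι_comm x hx, by rw [mulEq hx hx, e]⟩, fun e => ?_⟩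
        exact D.cι_inj (mul_lt hx hx) li ((mulEq hx hx).symm.trans e.2)) fun _ h => h.1
    have c2 := D.root_ncard hC (fun x => x * t = t * x ∧ x * x = t ∧ x * r = r * x)
      (fun x => O.mul x x == 1 && O.mul x (O.reps.getD e.2.1 0) == O.mul (O.reps.getD e.2.1 0) x)
      (fun x hx => by
        simp only [Bool.and_eq_true, beq_iff_eq]
        refine ⟨fun e' => ⟨D.cι_comm x hx, by rw [mulEq hx hx, e'.1]; exact D.cι_one,
          by simp only [r]; rw [mulEq hx lj, mulEq lj hx, e'.2]⟩, fun e' => ⟨?_, ?_⟩⟩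
        · exact D.cι_inj (mul_lt hx hx) (by norm_num)
            ((mulEq hx hx).symm.trans (e'.2.1.trans D.cι_one.symm))
        · exact D.cι_inj (mul_lt hx lj) (mul_lt lj hx)
            ((mulEq hx lj).symm.trans (e'.2.2.trans (mulEq lj hx)))) fun _ h => h.1
    rw [← h1, ← h2, ← c1, ← c2, ← Set.ncard_image_of_injective _ (MulAut.conj d).injective]
    congr 1
    ext z
    simp only [Set.mem_image, Set.mem_setOf_eq, MulAut.conj_apply]
    constructor
    · rintro ⟨x, ⟨hxt, hx2⟩, rfl⟩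
      have hz2 : d * x * d⁻¹ * (d * x * d⁻¹) = t := by
        rw [show d * x * d⁻¹ * (d * x * d⁻¹) = d * (x * x) * d⁻¹ by group, hx2, d1]
      refine ⟨?_, hz2, ?_⟩
      · rw [← hz2]; group
      · calc d * x * d⁻¹ * r = d * (x * t) * d⁻¹ := by rw [← d2]; group
          _ = d * (t * x) * d⁻¹ := by rw [hxt]
          _ = r * (d * x * d⁻¹) := by rw [← d2]; group
    · rintro ⟨hzt, hz2, hzr⟩
      refine ⟨d⁻¹ * z * d, ⟨?_, ?_⟩, by group⟩
      · calc d⁻¹ * z * d * t = d⁻¹ * (z * r) * d := by rw [← d2]; group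
          _ = d⁻¹ * (r * z) * d := by rw [hzr]
          _ = t * (d⁻¹ * z * d) := by rw [← d2]; group
      · calc d⁻¹ * z * d * (d⁻¹ * z * d) = d⁻¹ * (z * z) * d := by group
          _ = ι (O.reps.getD i 0) := by rw [hz2, ← d1]; group
  have hsub : ∀ i < O.reps.length, Fu i → i ∈ O.live := by
    set n := O.reps.length
    set m := Nat.ofBits fun i : Fin n => decide (Fu i.val)
    have hm : ∀ i < n, m.testBit i = decide (Fu i) := fun i hi =>
      Nat.testBit_ofBits_lt (fun i : Fin n => decide (Fu i.val)) i hi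
    intro i hi hf
    have hc := hclosed m (Nat.ofBits_lt_two_pow _)
    simp only [Bool.or_eq_true, Bool.not_eq_true', List.all_eq_false, List.all_eq_true,
      List.mem_range] at hc
    rcases hc with ⟨i', hi', hne⟩ | hc
    · exfalso
      simp only [Bool.or_eq_true, Bool.not_eq_true', List.any_eq_true, Bool.and_eq_true,
        beq_iff_eq, List.mem_range, not_or, not_exists, not_and] at hne
      have hF : Fu i' := by simpa [hm i' hi'] using hne.1
      obtain ⟨j, hj, hFj, hn⟩ := step i' hi' hF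
      exact hne.2 j hj (by rw [hm j hj]; simpa using hFj) hn
    · rcases hc i hi with h | h
      · simp [hm i hi, hf] at h
      · simpa using h
  by_cases hall : ∀ i < O.reps.length, ¬ Fu i
  · refine not_isolated_simple F ⟨ttwo, fun g hc => ?_⟩
    by_contra hne
    have hyc : IsConj t (g * t * g⁻¹) := isConj_iff.mpr ⟨g, rfl⟩
    obtain ⟨e, -, hi, he1, he2⟩ := classify hc.eq.symm (conj_sq hyc).1 (conj_sq hyc).2 hne
    exact hall _ hi ((fused_entry he2).mp (he1 ▸ hyc))
  push Not at hall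
  obtain ⟨l, hl, hFl⟩ := hall
  have hlm := hsub l hl hFl
  obtain ⟨l', hl'⟩ : ∃ l', O.live = [l'] := by
    cases hL : O.live with
    | nil => simp [hL] at hlm
    | cons a as =>
      refine ⟨a, ?_⟩
      simp only [hL, List.length_cons] at hlive
      cases as with
      | nil => rfl
      | cons _ _ => simp at hlive
  have hll : l' = l := by rw [hl'] at hlm; simpa using (List.mem_singleton.mp hlm).symm
  subst hll
  rw [hl'] at hE
  simp only [List.isEmpty_cons, Bool.false_eq_true, false_or, Bool.or_eq_true, Bool.and_eq_true,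
    List.all_eq_true, decide_eq_true_eq, beq_iff_eq, List.contains_iff_mem,
    List.any_eq_true] at hE
  obtain ⟨⟨⟨⟨⟨⟨⟨hE16, hEnd⟩, hE0⟩, hE1⟩, hElt⟩, hEmul⟩, hEcls⟩, hEinv⟩ := hE
  have memE : ∀ e ∈ O.inv, (e.1 ∈ O.E ↔ e.2.1 = l') := fun e he => by
    have := hEcls e he
    by_cases hh : e.1 ∈ O.E <;> simp [hh] at this <;> simp [hh, this]
  let H : Set G := {g | ∃ x ∈ O.E, ι x = g}
  have Hcomm : ∀ a ∈ H, ∀ c ∈ H, a * c = c * a := by
    rintro a ⟨x, hx, rfl⟩ c ⟨y, hy, rfl⟩
    rw [mulEq (hElt x hx) (hElt y hy), mulEq (hElt y hy) (hElt x hx), (hEmul x hx y hy).1]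
  have tH : t ∈ H := ⟨1, hE1, D.cι_one⟩
  have Hfused : ∀ a ∈ H, a = 1 ∨ IsConj t a := by
    rintro a ⟨x, hx, rfl⟩
    rcases hEinv x hx with (rfl | rfl) | ⟨e, he, rfl⟩
    · exact Or.inl D.cι_zero
    · exact Or.inr (by rw [show ι 1 = t from D.cι_one])
    · refine Or.inr ((fused_entry ?_).mpr (((memE e he).mp hx) ▸ hFl))
      obtain ⟨⟨⟨lx, hi⟩, hw⟩, heq⟩ := hinv e he
      rw [eq_mul_inv_iff_mul_eq, mulEq lx hw, mulEq hw (rep_lt hi).1, heq]
  have inH : ∀ {y : G}, IsConj t y → y * t = t * y → y ∈ H := by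
    intro y hy hc
    by_cases hyt : y = t
    · exact hyt ▸ tH
    obtain ⟨e, he, hi, he1, he2⟩ := classify hc (conj_sq hy).1 (conj_sq hy).2 hyt
    have hl'' := hsub _ hi ((fused_entry he2).mp (he1 ▸ hy))
    rw [hl'] at hl''
    exact ⟨e.1, (memE e he).mpr (List.mem_singleton.mp hl''), he1⟩
  have key : ∀ a ∈ H, a ≠ 1 → ∀ y, IsConj t y → a * y = y * a → y ∈ H := by
    intro a ha ha1 y hy hay
    obtain ⟨g, hg⟩ := isConj_iff.mp ((Hfused a ha).resolve_left ha1)
    have h1 : g⁻¹ * t * g ∈ H := by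
      refine inH (by simpa using (isConj_conj g⁻¹ t).mpr (IsConj.refl t)) ?_
      calc g⁻¹ * t * g * t = g⁻¹ * (t * a) * g := by rw [← hg]; group
        _ = g⁻¹ * (a * t) * g := by rw [Hcomm a ha t tH]
        _ = t * (g⁻¹ * t * g) := by rw [← hg]; group
    have h2 : g⁻¹ * y * g ∈ H := by
      refine inH (by simpa using (isConj_conj g⁻¹ y).mpr hy) ?_
      calc g⁻¹ * y * g * t = g⁻¹ * (y * a) * g := by rw [← hg]; group
        _ = g⁻¹ * (a * y) * g := by rw [hay]
        _ = t * (g⁻¹ * y * g) := by rw [← hg]; group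
    have e : g * (g⁻¹ * y * g) * g⁻¹ = y := by group
    refine inH hy ?_
    rw [← e]
    calc g * (g⁻¹ * y * g) * g⁻¹ * t = g * ((g⁻¹ * y * g) * (g⁻¹ * t * g)) * g⁻¹ := by group
      _ = g * ((g⁻¹ * t * g) * (g⁻¹ * y * g)) * g⁻¹ := by rw [Hcomm _ h2 _ h1]
      _ = t * (g * (g⁻¹ * y * g) * g⁻¹) := by group
  let K : Subgroup G :=
    { carrier := H
      one_mem' := ⟨0, hE0, D.cι_zero⟩
      mul_mem' := by
        rintro a c ⟨x, hx, rfl⟩ ⟨y, hy, rfl⟩
        exact ⟨_, (hEmul x hx y hy).2, (mulEq (hElt x hx) (hElt y hy)).symm⟩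
      inv_mem' := by
        intro a ha
        rcases Hfused a ha with rfl | hc
        · simpa using ha
        · rwa [inv_eq_of_mul_eq_one_right (conj_sq hc).1] }
  let X := {y : G // IsConj t y ∧ y ∉ H}
  letI act : MulAction K X :=
    { smul := fun a y => ⟨a * y.1 * (a : G)⁻¹, (isConj_conj _ _).mpr y.2.1, fun hm => y.2.2 (by
        have e : ((a : G)⁻¹ * (a * y.1 * (a : G)⁻¹) * a) = y.1 := by group
        rw [← e]
        exact K.mul_mem (K.mul_mem (K.inv_mem a.2) hm) a.2)⟩
      one_smul := fun y => Subtype.ext (by show (1 : G) * y.1 * (1 : G)⁻¹ = y.1; group)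
      mul_smul := fun a c y => Subtype.ext (by
        show ((a : G) * c) * y.1 * ((a : G) * c)⁻¹ = (a : G) * ((c : G) * y.1 * (c : G)⁻¹) * (a : G)⁻¹
        group) }
  have hfree : ∀ y : X, MulAction.stabilizer K y = ⊥ := by
    intro y
    rw [eq_bot_iff]
    intro a ha
    by_contra hne
    have e : (a : G) * y.1 * (a : G)⁻¹ = y.1 :=
      congrArg Subtype.val (MulAction.mem_stabilizer_iff.mp ha)
    exact y.2.2 (key a a.2 (fun e' => hne (Subgroup.mem_bot.mpr (Subtype.ext e'))) y.1 y.2.1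
      (mul_inv_eq_iff_eq_mul.mp e))
  have hK : Nat.card K = 16 := by
    have e : (K : Set G) = ι '' (O.E.toFinset : Set ℕ) := by
      ext g; simp [K, H]
    rw [← SetLike.coe_sort_coe, Nat.card_coe_set_eq, e, Set.InjOn.ncard_image, Set.ncard_coe_finset,
      List.toFinset_card_of_nodup hEnd, hE16]
    intro x hx y hy hxy
    simp only [List.coe_toFinset, Set.mem_setOf_eq] at hx hy
    exact D.cι_inj (hElt x hx) (hElt y hy) hxy
  have hX : 16 ∣ Nat.card X := by
    rw [Nat.card_congr (MulAction.selfEquivOrbitsQuotientProd hfree), Nat.card_prod, hK]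
    exact dvd_mul_left _ _
  have horb : {y : G | IsConj t y}.ncard * 21504 = 4030387200 := by
    set C := Subgroup.centralizer ({t} : Set G)
    have hiff : ∀ g g' : G, g * t * g⁻¹ = g' * t * g'⁻¹ ↔ g⁻¹ * g' ∈ C := by
      intro g g'
      rw [Subgroup.mem_centralizer_singleton_iff]
      constructor
      · intro e
        calc g⁻¹ * g' * t = g⁻¹ * (g' * t * g'⁻¹) * g' := by group
          _ = g⁻¹ * (g * t * g⁻¹) * g' := by rw [e]
          _ = t * (g⁻¹ * g') := by group
      · intro e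
        calc g * t * g⁻¹ = g * (t * (g⁻¹ * g')) * g'⁻¹ := by group
          _ = g * (g⁻¹ * g' * t) * g'⁻¹ := by rw [e]
          _ = g' * t * g'⁻¹ := by group
    let f : G ⧸ C → {y : G | IsConj t y} := fun q => Quotient.liftOn' q
      (fun g => ⟨g * t * g⁻¹, isConj_iff.mpr ⟨g, rfl⟩⟩)
      (fun g g' hg => Subtype.ext ((hiff g g').mpr (QuotientGroup.leftRel_apply.mp hg)))
    have hf : Function.Bijective f := by
      constructor
      · intro q q'
        induction q using QuotientGroup.induction_on with | H g => ?_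
        induction q' using QuotientGroup.induction_on with | H g' => ?_
        intro e
        exact QuotientGroup.eq.mpr ((hiff g g').mp (congrArg Subtype.val e))
      · rintro ⟨y, hy⟩
        obtain ⟨g, rfl⟩ := isConj_iff.mp hy
        exact ⟨QuotientGroup.mk g, rfl⟩
    have hcard := Subgroup.card_mul_index C
    rw [← Nat.card_coe_set_eq, ← Nat.card_congr (Equiv.ofBijective f hf), ← Subgroup.index]
    rw [hC, hG] at hcard
    linarith
  have hsplit : {y : G | IsConj t y}.ncard = Nat.card X + 15 := by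
    have e : {y : G | IsConj t y} = {y | IsConj t y ∧ y ∉ H} ∪ (H \ {1}) := by
      ext y
      simp only [Set.mem_setOf_eq, Set.mem_union, Set.mem_sdiff, Set.mem_singleton_iff]
      constructor
      · intro hy
        by_cases hh : y ∈ H
        · exact Or.inr ⟨hh, (conj_sq hy).2⟩
        · exact Or.inl ⟨hy, hh⟩
      · rintro (⟨hy, -⟩ | ⟨hh, h1⟩)
        · exact hy
        · exact (Hfused y hh).resolve_left h1
    rw [e, Set.ncard_union_eq (by
      rw [Set.disjoint_left]; rintro y ⟨-, hn⟩ ⟨hh, -⟩; exact hn hh) (Set.toFinite _) (Set.toFinite _)]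
    congr 1
    rw [Set.ncard_sdiff_singleton_of_mem (show (1 : G) ∈ H from K.one_mem)]
    have : H.ncard = 16 := by
      rw [← hK, ← SetLike.coe_sort_coe, Nat.card_coe_set_eq]
      rfl
    omega
  omega

end Gen

end CfsgLib.HeUnique.Struct
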