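import Cfsg.Agent.Lib.HeUnique.Struct.Frame

/-!
Bases fixed by an element of order three.
-/

set_option autoImplicit false

namespace CfsgLib.HeUnique.Struct

variable {G : Type*} [Group G]

/-- An element of order three normalising the one of order seven. -/
structure Twenty (t : G) (Q : Subgroup G) (s b : G) : Prop extends Seven t Q s where
  b_t : b * t = t * b
  b3 : b ^ 3 = 1
  bs : b * s * b⁻¹ = s ^ 2

theorem fsol_orbit : ∀ c : Fin 7 → ZMod 2, ∀ d : Fin 7 → ZMod 2, FSol c → (∃ i, c i = 1) →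
    FSol d → (∀ i, d i = 0) ∨ ∃ j, ∀ i, d i = c (i + j) := by
  decide +kernel

namespace Twenty

variable {t : G} {Q : Subgroup G} {s b : G} (T : Twenty t Q s b)
include T

theorem inv : Twenty t Q s⁻¹ b :=
  { toSeven := T.toSeven.inv
    b_t := T.b_t
    b3 := T.b3
    bs := by
      rw [show b * s⁻¹ * b⁻¹ = (b * s * b⁻¹)⁻¹ by group, T.bs, inv_pow] }

theorem b_sh (i : ℕ) (x : G) : b * sh s i x * b⁻¹ = sh s (2 * i) (b * x * b⁻¹) := by
  have e : b * s ^ i * b⁻¹ = s ^ (2 * i) := by rw [← conj_pow, T.bs, ← pow_mul]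
  simp only [sh, ← e]
  group

theorem exact_conj {h : G} (H : Exact Q s h) : Exact Q s (b * h * b⁻¹) := by
  refine ⟨T.norm b T.b_t h H.mem, fun e => H.ne (conj_eq_one_iff.mp e), ?_, ?_⟩
  · calc b * h * b⁻¹ * (b * h * b⁻¹) = b * (h * h) * b⁻¹ := by group
      _ = 1 := by rw [H.sq]; group
  · have h3 := H.rec3
    have h4 := (T.exact_shift H 1).rec3
    have h5 := (T.exact_shift H 2).rec3
    simp only [sh_add, Nat.reduceAdd] at h4 h5
    have e5 : sh s 5 h = sh s 4 h * h := by
      have c := T.exact_comm H 2 1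
      have c0 := T.exact_comm H 0 2
      rw [sh_zero] at c0
      rw [h5, h3, h4, c, mul_assoc, c0, ← mul_assoc]
    have b3 := T.b_sh 5 h
    have b1 := T.b_sh 4 h
    rw [← sh_mod T.s7 (2 * 5)] at b3
    rw [← sh_mod T.s7 (2 * 4)] at b1
    simp only [Nat.reduceMul, Nat.reduceMod] at b3 b1
    rw [← b3, ← b1, e5]
    group

theorem exists_fixed [Finite G] {h k : G} (P : Pair t Q s h k) :
    ∃ h', b * h' * b⁻¹ = h' ∧ Pair t Q s h' k := by
  classical
  have hE := T.exact_conj P.exH
  set x := b * h * b⁻¹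
  have hxt : x ≠ t := fun e => by
    have := hE.rec3
    rw [e, T.sh_t, T.sh_t, T.t_sq] at this
    exact T.t_ne this
  obtain ⟨i0, hi0⟩ := P.val
  have hk := P.exK.mem
  set c : Fin 7 → ZMod 2 := fun i => β (sh s i.val h) k
  set d : Fin 7 → ZMod 2 := fun i => β (sh s i.val x) k
  have isoH : ∀ i, β x (sh s i h) = 0 := fun i =>
    T.isotropic (T.killF_of_exact hE) (T.killF_of_exact P.exH) i
  have hval : ∀ (y : G) (j : Fin 3),
      β y (sh s j.val k) = β (sh s ((7 - j.val) % 7) y) k := by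
    intro y j
    conv_rhs => rw [← sh_zero s k, P.β_shift]
    congr 2
    omega
  rcases fsol_orbit c d (P.values_fsol P.exH hk) ⟨i0, hi0⟩ (P.values_fsol hE hk) with h0 | ⟨j, hj⟩
  · exfalso
    rcases P.kernel hE.mem (funext fun i => isoH _) (funext fun i => by
      simp only [Pair.valsK, Pi.zero_apply]
      rw [hval]
      exact h0 ⟨(7 - i.val) % 7, Nat.mod_lt _ (by norm_num)⟩) with e | e
    · exact hE.ne e
    · exact hxt e
  have hm := P.sh_mem P.exH.mem j.val
  have hxy : x * sh s j.val h = 1 ∨ x * sh s j.val h = t := by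
    refine P.kernel (Q.mul_mem hE.mem hm) (funext fun i => ?_) (funext fun i => ?_)
    · simp only [Pair.valsH, Pi.zero_apply]
      rw [T.β_mul_left hE.mem hm (P.sh_mem P.exH.mem _), isoH,
        β_eq_zero.mpr (T.exact_comm P.exH _ _), add_zero]
    · simp only [Pair.valsK, Pi.zero_apply]
      rw [T.β_mul_left hE.mem hm (P.shK_mem _), hval, hval, sh_add]
      have e := hj ⟨(7 - i.val) % 7, Nat.mod_lt _ (by norm_num)⟩
      simp only [c, d, Fin.val_add] at e
      rw [e, sh_mod T.s7]
      exact CharTwo.add_self_eq_zero _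
  have hsq := (T.exact_shift P.exH j.val).sq
  rcases hxy with e | e
  · have hx : x = sh s j.val h := by
      rw [← mul_one x, ← hsq, ← mul_assoc, e, one_mul]
    suffices hb : b * sh s (6 * j.val) h * b⁻¹ = sh s (6 * j.val) h ∧
        ∃ i : Fin 7, β (sh s i.val (sh s (6 * j.val) h)) k = 1 from
      ⟨_, hb.1, Pair.mk T.toSeven (T.exact_shift P.exH _) P.exK hb.2⟩
    refine ⟨?_, ?_⟩
    · rw [T.b_sh, show b * h * b⁻¹ = x from rfl, hx, sh_add, ← sh_mod T.s7,
        ← sh_mod T.s7 (6 * j.val)]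
      congr 1
      omega
    · refine ⟨i0 + j, ?_⟩
      rw [sh_add, ← sh_mod T.s7, Fin.val_add,
        show ((i0.val + j.val) % 7 + 6 * j.val) % 7 = i0.val by omega]
      exact hi0
  · exfalso
    have hx : x = sh s j.val h * t := by
      calc x = x * (sh s j.val h * sh s j.val h) := by rw [hsq, mul_one]
        _ = (x * sh s j.val h) * sh s j.val h := by group
        _ = t * sh s j.val h := by rw [e]
        _ = sh s j.val h * t := (T.comm_t _ hm).symm
    have h3 := hE.rec3
    rw [hx, sh_mul, sh_mul, T.sh_t, T.sh_t, (T.exact_shift P.exH j.val).rec3] at h3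
    set u := sh s 1 (sh s j.val h)
    set v := sh s j.val h
    have ht : t * v = v * t := (T.comm_t _ hm).symm
    have : u * v * t = u * v := by
      calc u * v * t = u * t * (v * t) := h3
        _ = u * (t * v) * t := by group
        _ = u * v * (t * t) := by rw [ht]; group
        _ = u * v := by rw [T.t_sq, mul_one]
    exact T.t_ne (mul_eq_left.mp this)

/-- The adapted bases. -/
theorem exists_bases [Finite G] : ∃ h k, b * h * b⁻¹ = h ∧ b * k * b⁻¹ = k ∧ Pair t Q s h k ∧
    (fun i : Fin 7 => β (sh s i.val h) k) = ![1, 0, 0, 1, 0, 1, 1] := by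
  obtain ⟨p, hp, h1, ht⟩ := T.exists_killF
  obtain ⟨h, hh, -⟩ := T.exists_exact hp h1 ht
  obtain ⟨k, hk, hv⟩ := T.exists_partner hh
  obtain ⟨h', hf, P1⟩ := T.exists_fixed ({ toSeven := T.toSeven, exH := hh, exK := hk, val := hv } :
    Pair t Q s h k)
  obtain ⟨k', kf, P2⟩ := T.inv.exists_fixed P1.swap
  have P3 : Pair t Q s h' k' := inv_inv s ▸ P2.swap
  refine ⟨h', k', hf, kf, P3, fsol_fixed _ (P3.values_fsol P3.exH P3.exK.mem) P3.val fun i => ?_⟩
  have e := β_conj b (sh s i.val h') k'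
  rw [T.b_sh, hf, kf] at e
  rw [Fin.val_mul, show ((2 : Fin 7) : ℕ) = 2 from rfl, sh_mod T.s7]
  exact e

end Twenty

end CfsgLib.HeUnique.Struct
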