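import Cfsg.Agent.Lib.HeUnique.Struct.Symp

/-!
A basis permuted by a group of order twenty-one.
-/

set_option autoImplicit false

namespace CfsgLib.HeUnique.Struct

variable {G : Type*} [Group G]

/-- An involution of `Q` satisfying the recurrence of `x³ + x + 1`. -/
structure Exact (Q : Subgroup G) (s h : G) : Prop where
  mem : h ∈ Q
  ne : h ≠ 1
  sq : h * h = 1
  rec3 : sh s 3 h = sh s 1 h * h

/-- The recurrence for the sequence of values. -/
def FSol (c : Fin 7 → ZMod 2) : Prop := ∀ i, c (i + 3) + c (i + 1) + c i = 0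

instance (c : Fin 7 → ZMod 2) : Decidable (FSol c) := by unfold FSol; infer_instance

theorem fsol_shift : ∀ c : Fin 7 → ZMod 2, FSol c → c 0 = 1 →
    ∃ i, c i + c (i + 5) + c (i + 4) + c (i + 3) = 1 := by
  decide +kernel

theorem fsol_indep : ∀ c : Fin 7 → ZMod 2, FSol c → (∃ i, c i = 1) → ∀ a : Fin 3 → ZMod 2,
    ∃ b : Fin 3 → ZMod 2, ∀ j : Fin 3, b 0 * c (-(Fin.castLE (by norm_num) j)) +
      b 1 * c (1 - (Fin.castLE (by norm_num) j)) + b 2 * c (2 - (Fin.castLE (by norm_num) j)) = a j := by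
  decide +kernel

theorem fsol_indep' : ∀ c : Fin 7 → ZMod 2, FSol c → (∃ i, c i = 1) → ∀ a : Fin 3 → ZMod 2,
    ∃ b : Fin 3 → ZMod 2, ∀ j : Fin 3, b 0 * c (Fin.castLE (by norm_num) j) +
      b 1 * c (Fin.castLE (by norm_num) j - 1) + b 2 * c (Fin.castLE (by norm_num) j - 2) = a j := by
  decide +kernel

theorem fsol_fixed : ∀ c : Fin 7 → ZMod 2, FSol c → (∃ i, c i = 1) → (∀ i, c (2 * i) = c i) →
    c = ![1, 0, 0, 1, 0, 1, 1] := by
  decide +kernel

namespace Seven

variable {t : G} {Q : Subgroup G} {s : G} (S : Seven t Q s)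
include S

theorem killF_of_exact {h : G} (H : Exact Q s h) : KillF Q s h := by
  refine ⟨H.mem, fun y hy => ?_⟩
  rw [H.rec3, S.β_mul_left (S.sh_mem H.mem 1) H.mem hy]
  generalize β (sh s 1 h) y = a
  generalize β h y = b
  revert a b; decide

theorem exact_comm {h : G} (H : Exact Q s h) (i j : ℕ) :
    sh s i h * sh s j h = sh s j h * sh s i h := by
  rw [← β_eq_zero, S.β_shift]
  exact S.isotropic (S.killF_of_exact H) (S.killF_of_exact H) _

theorem exists_exact {p : G} (hp : KillF Q s p) (h1 : p ≠ 1) (ht : p ≠ t) :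
    ∃ h, Exact Q s h ∧ (h = p ∨ h = p * t) := by
  have m := S.sh_mem hp.1
  have hx : sh s 3 p * sh s 1 p * p = 1 ∨ sh s 3 p * sh s 1 p * p = t :=
    S.radical (Q.mul_mem (Q.mul_mem (m 3) (m 1)) hp.1) fun y hy => by
      rw [S.β_mul_left (Q.mul_mem (m 3) (m 1)) hp.1 hy, S.β_mul_left (m 3) (m 1) hy]
      exact hp.2 y hy
  obtain ⟨h, hh, hQ, hne, hK, hprod⟩ : ∃ h, (h = p ∨ h = p * t) ∧ h ∈ Q ∧ h ≠ 1 ∧ KillF Q s h ∧
      sh s 3 h * sh s 1 h * h = 1 := by
    rcases hx with e | e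
    · exact ⟨p, Or.inl rfl, hp.1, h1, hp, e⟩
    · refine ⟨p * t, Or.inr rfl, Q.mul_mem hp.1 S.t_mem, fun e' => ht ?_, ⟨Q.mul_mem hp.1 S.t_mem,
        fun y hy => ?_⟩, ?_⟩
      · calc p = p * (t * t) := by rw [S.t_sq, mul_one]
          _ = p * t * t := by group
          _ = t := by rw [e', one_mul]
      · simp only [sh_mul, S.sh_t]
        rw [S.β_mul_left (m 3) S.t_mem hy, S.β_mul_left (m 1) S.t_mem hy,
          S.β_mul_left hp.1 S.t_mem hy, ← tp_one t, S.β_tp_left 1 hy]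
        simpa using hp.2 y hy
      · have c1 := S.comm_t _ (m 1)
        have c0 := S.comm_t _ hp.1
        calc sh s 3 (p * t) * sh s 1 (p * t) * (p * t)
            = sh s 3 p * (t * sh s 1 p) * (t * p) * t := by simp only [sh_mul, S.sh_t]; group
          _ = sh s 3 p * (sh s 1 p * t) * (t * p) * t := by rw [c1]
          _ = sh s 3 p * sh s 1 p * (t * t) * p * t := by group
          _ = 1 := by rw [S.t_sq, mul_one, e, S.t_sq]
  have mh := S.sh_mem hQ
  have hc : sh s 1 h * h = h * sh s 1 h := by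
    rw [← β_eq_zero, β_symm]
    exact S.isotropic hK hK 1
  rcases S.sq h hQ with e | e
  · refine ⟨h, ⟨hQ, hne, e, ?_⟩, hh⟩
    have hsq : (sh s 1 h * h) * (sh s 1 h * h) = 1 := by
      calc sh s 1 h * h * (sh s 1 h * h) = sh s 1 h * (h * sh s 1 h) * h := by group
        _ = sh s 1 h * (sh s 1 h * h) * h := by rw [hc]
        _ = sh s 1 (h * h) * (h * h) := by rw [sh_mul]; group
        _ = 1 := by rw [e]; simp [sh]
    calc sh s 3 h = sh s 3 h * (sh s 1 h * h * (sh s 1 h * h)) := by rw [hsq, mul_one]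
      _ = (sh s 3 h * sh s 1 h * h) * (sh s 1 h * h) := by group
      _ = _ := by rw [hprod, one_mul]
  · exfalso
    have e3 : sh s 3 h = (sh s 1 h * h)⁻¹ := by
      rw [eq_inv_iff_mul_eq_one, ← mul_assoc]; exact hprod
    have hsq : (sh s 1 h * h) * (sh s 1 h * h) = 1 := by
      calc sh s 1 h * h * (sh s 1 h * h) = sh s 1 h * (h * sh s 1 h) * h := by group
        _ = sh s 1 h * (sh s 1 h * h) * h := by rw [hc]
        _ = sh s 1 (h * h) * (h * h) := by rw [sh_mul]; group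
        _ = 1 := by rw [e, S.sh_t, S.t_sq]
    have : sh s 3 (h * h) = 1 := by rw [sh_mul, e3, ← mul_inv_rev, hsq, inv_one]
    rw [e, S.sh_t] at this
    exact S.t_ne this

theorem exact_shift {h : G} (H : Exact Q s h) (i : ℕ) : Exact Q s (sh s i h) := by
  refine ⟨S.sh_mem H.mem i, fun e => H.ne ?_, ?_, ?_⟩
  · simp only [sh] at e
    exact conj_eq_one_iff.mp e
  · rw [← sh_mul, H.sq]; simp [sh]
  · rw [sh_add, sh_add, add_comm 3, add_comm 1, ← sh_add s i 3, H.rec3, sh_mul, sh_add]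

theorem values_fsol {h y : G} (H : Exact Q s h) (hy : y ∈ Q) :
    FSol fun i => β (sh s i.val h) y := by
  intro i
  have hK := S.killF_of_exact (S.exact_shift H i.val)
  have := hK.2 y hy
  rw [sh_add, sh_add, ← sh_mod S.s7 (3 + i.val), ← sh_mod S.s7 (1 + i.val)] at this
  simp only [Fin.val_add, show ((3 : Fin 7) : ℕ) = 3 from rfl, show ((1 : Fin 7) : ℕ) = 1 from rfl,
    add_comm i.val]
  exact this

theorem exists_partner {h : G} (H : Exact Q s h) :
    ∃ k, Exact Q s⁻¹ k ∧ ∃ i : Fin 7, β (sh s i.val h) k = 1 := by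
  have ht : h ≠ t := fun e => by
    have := H.rec3
    rw [e, S.sh_t, S.sh_t, S.t_sq] at this
    exact S.t_ne this
  obtain ⟨y, hy, hy1⟩ : ∃ y ∈ Q, β h y = 1 := by
    by_contra hne
    push Not at hne
    exact (S.radical H.mem fun y hy => (zmod2_cases _).resolve_right (hne y hy)).elim H.ne ht
  set c : Fin 7 → ZMod 2 := fun i => β (sh s i.val h) y
  have c0 : c 0 = 1 := by simp only [c, Fin.val_zero, sh_zero]; exact hy1
  obtain ⟨i, hi⟩ := fsol_shift c (S.values_fsol H hy) c0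
  have m := S.sh_mem hy
  set a := y * sh s 2 y * sh s 3 y * sh s 4 y
  have ha : a ∈ Q := Q.mul_mem (Q.mul_mem (Q.mul_mem hy (m 2)) (m 3)) (m 4)
  have hsum : ∀ x ∈ Q, β x a = β x y + β x (sh s 2 y) + β x (sh s 3 y) + β x (sh s 4 y) := by
    intro x hx
    rw [S.β_mul_right hx (Q.mul_mem (Q.mul_mem hy (m 2)) (m 3)) (m 4),
      S.β_mul_right hx (Q.mul_mem hy (m 2)) (m 3), S.β_mul_right hx hy (m 2)]
  have hval : ∀ k : ℕ, β (sh s i.val h) (sh s k y) = β (sh s ((i.val + 6 * k) % 7) h) y := by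
    intro k
    rw [β_symm, S.β_shift, β_symm, β_symm (sh s _ h)]
  have ha1 : β (sh s i.val h) a = 1 := by
    rw [hsum _ (S.sh_mem H.mem _), hval, hval, hval]
    simp only [c, Fin.val_add, show ((5 : Fin 7) : ℕ) = 5 from rfl,
      show ((4 : Fin 7) : ℕ) = 4 from rfl, show ((3 : Fin 7) : ℕ) = 3 from rfl] at hi
    rw [show (i.val + 6 * 2) % 7 = (i.val + 5) % 7 by omega,
      show (i.val + 6 * 3) % 7 = (i.val + 4) % 7 by omega,
      show (i.val + 6 * 4) % 7 = (i.val + 3) % 7 by omega]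
    exact hi
  have hK : KillF Q s⁻¹ a := by
    refine ⟨ha, fun z hz => ?_⟩
    have e : ∀ j x, sh s⁻¹ j x = sh s (6 * j % 7) x := by
      intro j x
      have hj : (s⁻¹) ^ j = s ^ (6 * j % 7) := by
        rw [← pow_eq_pow_mod (6 * j) S.s7, inv_pow, inv_eq_iff_mul_eq_one, ← pow_add,
          show j + 6 * j = 7 * j by ring, pow_mul, S.s7, one_pow]
      simp only [sh, hj]
    have hs : ∀ j, β (sh s j a) z = β (sh s j y) z + β (sh s (j + 2) y) z + β (sh s (j + 3) y) z +
        β (sh s (j + 4) y) z := by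
      intro j
      simp only [a, sh_mul, sh_add]
      rw [S.β_mul_left (Q.mul_mem (Q.mul_mem (m _) (m _)) (m _)) (m _) hz,
        S.β_mul_left (Q.mul_mem (m _) (m _)) (m _) hz, S.β_mul_left (m _) (m _) hz]
    rw [e, e, ← sh_zero s a, sh_add, sh_add]
    simp only [hs, Nat.reduceMul, Nat.reduceMod, Nat.reduceAdd]
    rw [← sh_mod S.s7 7, ← sh_mod S.s7 8, ← sh_mod S.s7 9, ← sh_mod S.s7 10]
    simp only [Nat.reduceMod]
    generalize β (sh s 0 y) z = e0
    generalize β (sh s 1 y) z = e1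
    generalize β (sh s 2 y) z = e2
    generalize β (sh s 3 y) z = e3
    generalize β (sh s 4 y) z = e4
    generalize β (sh s 6 y) z = e6
    revert e0 e1 e2 e3 e4 e6
    decide
  have hz : ∀ e, β (sh s i.val h) (tp t e) = 0 := fun e => by
    rw [β_symm]; exact S.β_tp_left e (S.sh_mem H.mem _)
  obtain ⟨k, hk, hka⟩ := S.inv.exists_exact hK (fun e => by
      rw [e, ← tp_zero t, hz] at ha1; exact zero_ne_one ha1) (fun e => by
      rw [e, ← tp_one t, hz] at ha1; exact zero_ne_one ha1)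
  refine ⟨k, hk, i, ?_⟩
  rcases hka with rfl | rfl
  · exact ha1
  · rw [S.β_mul_right (S.sh_mem H.mem _) ha S.t_mem, ha1, ← tp_one t, hz, add_zero]

end Seven

/-- Partners. -/
structure Pair (t : G) (Q : Subgroup G) (s h k : G) : Prop extends Seven t Q s where
  exH : Exact Q s h
  exK : Exact Q s⁻¹ k
  val : ∃ i : Fin 7, β (sh s i.val h) k = 1

namespace Pair

variable {t : G} {Q : Subgroup G} {s h k : G} (P : Pair t Q s h k)
include P

/-- The values on the two bases. -/
noncomputable def valsH (_ : Pair t Q s h k) (y : G) : Fin 3 → ZMod 2 := fun j => β y (sh s j.val h)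

/-- The values on the second basis. -/
noncomputable def valsK (_ : Pair t Q s h k) (y : G) : Fin 3 → ZMod 2 := fun j => β y (sh s j.val k)

theorem shK_mem (i : ℕ) : sh s i k ∈ Q := P.sh_mem P.exK.mem i

theorem shK_iso (i j : ℕ) : β (sh s i k) (sh s j k) = 0 := by
  rw [P.β_shift]
  have h' := P.toSeven.inv.isotropic (P.toSeven.inv.killF_of_exact P.exK)
    (P.toSeven.inv.killF_of_exact P.exK) (6 * ((j + 6 * i) % 7))
  have e : (s⁻¹) ^ (6 * ((j + 6 * i) % 7)) = s ^ ((j + 6 * i) % 7) := by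
    rw [inv_pow, inv_eq_iff_mul_eq_one, ← pow_add,
      show 6 * ((j + 6 * i) % 7) + (j + 6 * i) % 7 = 7 * ((j + 6 * i) % 7) by ring, pow_mul, P.s7,
      one_pow]
  simpa only [sh, e] using h'

/-- An element orthogonal to both bases is central. -/
theorem kernel [Finite G] {x : G} (hx : x ∈ Q) (hH : P.valsH x = 0) (hK : P.valsK x = 0) :
    x = 1 ∨ x = t := by
  classical
  obtain ⟨i0, hi0⟩ := P.val
  have hc := P.values_fsol P.exH P.exK.mem
  set c : Fin 7 → ZMod 2 := fun i => β (sh s i.val h) k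
  have hmH := P.sh_mem P.exH.mem
  have hmK := P.shK_mem
  let Φ : G → (Fin 3 → ZMod 2) × (Fin 3 → ZMod 2) := fun y => (P.valsH y, P.valsK y)
  have hmul : ∀ a ∈ Q, ∀ b ∈ Q, Φ (a * b) = Φ a + Φ b := fun a ha b hb =>
    Prod.ext (funext fun j => P.β_mul_left ha hb (hmH _))
      (funext fun j => P.β_mul_left ha hb (hmK _))
  have hc' : ∀ i j : Fin 3, β (sh s i.val h) (sh s j.val k) =
      c (Fin.castLE (by norm_num) i - Fin.castLE (by norm_num) j) := by
    intro i j
    simp only [c]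
    rw [β_symm, P.β_shift, β_symm]
    congr 2
    revert i j
    decide
  have pw : ∀ (x : G) (e : ZMod 2), (if e = 0 then (1 : G) else x) ∈ ({1, x} : Set G) := by
    intro x e; split_ifs <;> simp
  have gen : ∀ (u : G), u ∈ Q → ∀ e : ZMod 2, ∀ y ∈ Q, β (if e = 0 then 1 else u) y = e * β u y := by
    intro u hu e y hy
    rcases zmod2_cases e with rfl | rfl
    · simp only [if_pos, zero_mul]; exact P.β_tp_left 0 hy |> fun h => by rwa [tp_zero] at h
    · simp
  have memif : ∀ (u : G), u ∈ Q → ∀ e : ZMod 2, (if e = 0 then (1 : G) else u) ∈ Q := by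
    intro u hu e; split_ifs
    exacts [Q.one_mem, hu]
  have surj : ∀ a : (Fin 3 → ZMod 2) × (Fin 3 → ZMod 2), ∃ y ∈ Q, Φ y = a := by
    rintro ⟨a, b⟩
    obtain ⟨u, hu⟩ := fsol_indep' c hc ⟨i0, hi0⟩ a
    obtain ⟨v, hv⟩ := fsol_indep c hc ⟨i0, hi0⟩ b
    let X : (ℕ → G) → (Fin 3 → ZMod 2) → G := fun f w =>
      (if w 0 = 0 then 1 else f 0) * (if w 1 = 0 then 1 else f 1) * (if w 2 = 0 then 1 else f 2)
    have hX : ∀ (f : ℕ → G), (∀ n, f n ∈ Q) → ∀ w, X f w ∈ Q ∧ ∀ y ∈ Q,
        β (X f w) y = w 0 * β (f 0) y + w 1 * β (f 1) y + w 2 * β (f 2) y := by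
      intro f hf w
      have m0 := memif _ (hf 0) (w 0); have m1 := memif _ (hf 1) (w 1)
      have m2 := memif _ (hf 2) (w 2)
      refine ⟨Q.mul_mem (Q.mul_mem m0 m1) m2, fun y hy => ?_⟩
      simp only [X]
      rw [P.β_mul_left (Q.mul_mem m0 m1) m2 hy, P.β_mul_left m0 m1 hy, gen _ (hf 0) _ y hy,
        gen _ (hf 1) _ y hy, gen _ (hf 2) _ y hy]
    obtain ⟨mH, eH⟩ := hX (fun n => sh s n h) hmH v
    obtain ⟨mK, eK⟩ := hX (fun n => sh s n k) hmK u
    refine ⟨_, Q.mul_mem mK mH, Prod.ext (funext fun j => ?_) (funext fun j => ?_)⟩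
    · simp only [Φ, valsH]
      rw [P.β_mul_left mK mH (hmH _), eK _ (hmH _), eH _ (hmH _),
        β_eq_zero.mpr (P.exact_comm P.exH 0 j.val), β_eq_zero.mpr (P.exact_comm P.exH 1 j.val),
        β_eq_zero.mpr (P.exact_comm P.exH 2 j.val), β_symm (sh s 0 k), β_symm (sh s 1 k),
        β_symm (sh s 2 k)]
      simp only [mul_zero, add_zero]
      rw [← hu j]
      congr 1
      · congr 1
        · congr 1
          rw [show sh s 0 k = sh s ((0 : Fin 3).val) k from rfl, hc' j 0]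
          simp
        · congr 1
          rw [show sh s 1 k = sh s ((1 : Fin 3).val) k from rfl, hc' j 1]
          congr 1
      · congr 1
        rw [show sh s 2 k = sh s ((2 : Fin 3).val) k from rfl, hc' j 2]
        congr 1
    · simp only [Φ, valsK]
      rw [P.β_mul_left mK mH (hmK _), eK _ (hmK _), eH _ (hmK _), P.shK_iso, P.shK_iso, P.shK_iso]
      simp only [mul_zero, add_zero, zero_add]
      rw [← hv j]
      congr 1
      · congr 1
        · congr 1
          rw [show sh s 0 h = sh s ((0 : Fin 3).val) h from rfl, hc' 0 j]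
          simp
        · congr 1
          rw [show sh s 1 h = sh s ((1 : Fin 3).val) h from rfl, hc' 1 j]
          congr 1
      · congr 1
        rw [show sh s 2 h = sh s ((2 : Fin 3).val) h from rfl, hc' 2 j]
        congr 1
  let φ : Q →* Multiplicative ((Fin 3 → ZMod 2) × (Fin 3 → ZMod 2)) :=
    MonoidHom.mk' (fun y => Multiplicative.ofAdd (Φ y)) fun a b => by
      rw [← ofAdd_add, ← hmul _ a.2 _ b.2, Subgroup.coe_mul]
  have hsurj : Function.Surjective φ := fun a => by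
    obtain ⟨y, hy, e⟩ := surj (Multiplicative.toAdd a)
    exact ⟨⟨y, hy⟩, congrArg Multiplicative.ofAdd e⟩
  have hker : Nat.card φ.ker = 2 := by
    have e := Subgroup.card_eq_card_quotient_mul_card_subgroup φ.ker
    rw [Nat.card_congr (QuotientGroup.quotientKerEquivOfSurjective φ hsurj).toEquiv, P.card,
      Nat.card_eq_fintype_card] at e
    simp only [Fintype.card_multiplicative, Fintype.card_prod, Fintype.card_fun, ZMod.card,
      Fintype.card_fin] at e
    omega
  obtain ⟨a, b, -, he⟩ := Nat.card_eq_two_iff.mp hker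
  have h0 : ∀ w (hw : w ∈ Q), (∀ y ∈ Q, β w y = 0) → (⟨w, hw⟩ : Q) ∈ φ.ker := by
    intro w hw hwy
    refine MonoidHom.mem_ker.mpr (congrArg Multiplicative.ofAdd ?_)
    exact Prod.ext (funext fun j => hwy _ (hmH _)) (funext fun j => hwy _ (hmK _))
  have i1 : (1 : Q) ∈ φ.ker := Subgroup.one_mem _
  have it := h0 t P.t_mem fun y hy => by rw [← tp_one t]; exact P.β_tp_left 1 hy
  have ix : (⟨x, hx⟩ : Q) ∈ φ.ker :=
    MonoidHom.mem_ker.mpr (congrArg Multiplicative.ofAdd (Prod.ext hH hK))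
  have hall : ∀ w : φ.ker, w = a ∨ w = b := fun w => by
    have : w ∈ ({a, b} : Set φ.ker) := by rw [he]; exact Set.mem_univ _
    simpa using this
  rcases hall ⟨_, i1⟩ with e1 | e1 <;> rcases hall ⟨_, it⟩ with e2 | e2 <;>
    rcases hall ⟨_, ix⟩ with e3 | e3
  all_goals first
    | exact Or.inl (congrArg (fun w : φ.ker => ((w : Q) : G)) (e3.trans e1.symm))
    | exact Or.inr (congrArg (fun w : φ.ker => ((w : Q) : G)) (e3.trans e2.symm))
    | exact absurd (congrArg (fun w : φ.ker => ((w : Q) : G)) (e2.trans e1.symm)) P.t_ne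

theorem swap : Pair t Q s⁻¹ k h := by
  refine { toSeven := P.toSeven.inv, exH := P.exK, exK := by rw [inv_inv]; exact P.exH, val := ?_ }
  obtain ⟨i, hi⟩ := P.val
  refine ⟨i, ?_⟩
  have e : (s⁻¹) ^ i.val = s ^ (6 * i.val % 7) := by
    rw [← pow_eq_pow_mod (6 * i.val) P.s7, inv_pow, inv_eq_iff_mul_eq_one, ← pow_add,
      show i.val + 6 * i.val = 7 * i.val by ring, pow_mul, P.s7, one_pow]
  rw [show sh s⁻¹ i.val k = sh s (6 * i.val % 7) k by simp only [sh, e], ← sh_zero s h, P.β_shift,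
    β_symm, show (0 + 6 * (6 * i.val % 7)) % 7 = i.val by omega]
  exact hi

end Pair

end CfsgLib.HeUnique.Struct
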