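import Cfsg.Agent.Lib.HeUnique.Struct.Tables

/-!
The possible centralizers as groups of codes.
-/

set_option autoImplicit false

namespace CfsgLib.HeUnique.Struct

variable {G : Type*} [Group G]

/-- A full set of generators of the centralizer. -/
structure Gen (t : G) (Q : Subgroup G) (s b h k w u : G) (wi ub : ℕ) : Prop where
  frame : Frame t Q s b h k
  rels : Rels s b w u
  wi_lt : wi < 3
  ub_lt : ub < 2
  w_t : w * t = t * w
  acts : ActsBy t s h k w (imW wi)
  u_eq : u = t ^ ub
  sep : ∀ n m, n < 168 → m < 168 → ∀ q ∈ Q, rep s b w n = q * rep s b w m → n = m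

/-- The element of a code. -/
def cι (t s b h k w : G) (x : ℕ) : G := ιQ t s h k (x % 128) * rep s b w (x / 128)

namespace Gen

variable {t : G} {Q : Subgroup G} {s b h k w u : G} {wi ub : ℕ} (D : Gen t Q s b h k w u wi ub)
include D

theorem acts_letter {g : ℕ} (hg : g < 3) :
    ActsBy t s h k (letter s b w g) (letterIm wi g) := by
  interval_cases g
  exacts [D.frame.actsS, D.frame.actsB, D.acts]

theorem acts_word : ∀ (ws : List ℕ), (∀ g ∈ ws, g < 3) → ∀ q < 128,
    ws.foldr (fun g r => act (letterIm wi g) r) q < 128 ∧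
      wordVal s b w ws * ιQ t s h k q =
        ιQ t s h k (ws.foldr (fun g r => act (letterIm wi g) r) q) * wordVal s b w ws
  | [], _, q, hq => ⟨hq, by simp [wordVal]⟩
  | g :: gs, hw, q, hq => by
    obtain ⟨l, e⟩ := acts_word gs (fun x hx => hw x (List.mem_cons_of_mem _ hx)) q hq
    obtain ⟨l', e'⟩ := D.acts_letter (hw g (List.mem_cons_self ..)) _ l
    refine ⟨l', ?_⟩
    simp only [wordVal, List.map_cons, List.prod_cons, List.foldr_cons] at e ⊢
    rw [mul_assoc, e, ← e']
    group

theorem wordVal_comm : ∀ ws : List ℕ, (∀ g ∈ ws, g < 3) → Commute (wordVal s b w ws) t := by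
  intro ws
  induction ws with
  | nil => exact fun _ => by simp [wordVal]
  | cons g gs ih =>
    intro hw
    simp only [wordVal, List.map_cons, List.prod_cons] at ih ⊢
    refine Commute.mul_left ?_ (ih fun x hx => hw x (List.mem_cons_of_mem _ hx))
    have := hw g (List.mem_cons_self ..)
    interval_cases g
    exacts [D.frame.s_t, D.frame.b_t, D.w_t]

theorem rep_ιQ {n q : ℕ} (hn : n < 168) (hq : q < 128) :
    actW wi n q < 128 ∧
      rep s b w n * ιQ t s h k q = ιQ t s h k (actW wi n q) * rep s b w n :=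
  D.acts_word _ (wordN_lt hn) q hq

theorem actL_eq {n q : ℕ} (hn : n < 168) (hq : q < 128) : actL wi n q = actW wi n q := by
  have k1 : CosetEnum.allUp (actCheck wi) 15 0 = true := by
    rcases (show wi = 0 ∨ wi = 1 ∨ wi = 2 by have := D.wi_lt; omega) with rfl | rfl | rfl
    exacts [actL_ok0, actL_ok1, actL_ok2]
  have k2 : CosetEnum.allUp (gensCheck wi) 8 0 = true := by
    rcases (show wi = 0 ∨ wi = 1 ∨ wi = 2 by have := D.wi_lt; omega) with rfl | rfl | rfl
    exacts [gensL_ok0, gensL_ok1, gensL_ok2]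
  have hg := CosetEnum.allUp_spec k2 n (Nat.zero_le _) (by norm_num; omega)
  simp only [gensCheck, decide_eq_true hn, cond_true, List.all_eq_true, decide_eq_true_eq] at hg
  have he := CosetEnum.allUp_spec k1 (n * 128 + q) (Nat.zero_le _) (by norm_num; omega)
  simp only [actCheck, decide_eq_true (show n * 128 + q < 21504 by omega), cond_true,
    decide_eq_true_eq, show (n * 128 + q) / 128 = n by omega,
    show (n * 128 + q) % 128 = q by omega] at he
  rw [he]
  have hgl : ∀ i < 6, (gensL wi n).getD i 0 = actW wi n (gens6.getD i 0) ∧ gens6.getD i 0 < 128 := by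
    intro i hi
    refine ⟨?_, gens6_lt i hi⟩
    interval_cases i <;> exact hg _ (by decide)
  have hA : ActsBy t s h k (rep s b w n) (gensL wi n) := by
    refine D.frame.actsBy ?_ (fun i hi => ?_) fun i hi => ?_
    · exact (D.wordVal_comm _ (wordN_lt hn)).eq
    · rw [(hgl i hi).1]
      exact (D.rep_ιQ hn (hgl i hi).2).1
    · rw [(hgl i hi).1, (D.rep_ιQ hn (hgl i hi).2).2, mul_inv_cancel_right]
  obtain ⟨l1, e1⟩ := hA q hq
  obtain ⟨l2, e2⟩ := D.rep_ιQ hn hq
  refine D.frame.ιQ_inj l1 l2 ?_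
  rw [← e1, e2, mul_inv_cancel_right]

theorem gmul_lt {x y : ℕ} (hx : x < 21504) (hy : y < 21504) : gmul wi ub x y < 21504 := by
  have hi : x / 128 < 168 := by omega
  have hj : y / 128 < 168 := by omega
  obtain ⟨e1, e2⟩ := mulL_eq hi hj
  obtain ⟨l1, l2⟩ := lmulN_lt hi hj
  have hb : (lmulN (x / 128) (y / 128)).1 * ub < 128 := by
    have := D.ub_lt
    nlinarith
  have hq := qmul_lt (qmul_lt (Nat.mod_lt x (by norm_num : 128 > 0))
    (D.rep_ιQ hi (Nat.mod_lt y (by norm_num))).1) hb
  simp only [gmul, e1, e2, D.actL_eq hi (Nat.mod_lt y (by norm_num))]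
  omega

theorem cι_mul {x y : ℕ} (hx : x < 21504) (hy : y < 21504) :
    cι t s b h k w x * cι t s b h k w y = cι t s b h k w (gmul wi ub x y) := by
  have hi : x / 128 < 168 := by omega
  have hj : y / 128 < 168 := by omega
  obtain ⟨e1, e2⟩ := mulL_eq hi hj
  obtain ⟨l1, l2⟩ := lmulN_lt hi hj
  have hxm := Nat.mod_lt x (by norm_num : 128 > 0)
  have hym := Nat.mod_lt y (by norm_num : 128 > 0)
  obtain ⟨la, ea⟩ := D.rep_ιQ hi hym
  set bb := (lmulN (x / 128) (y / 128)).1
  set N := (lmulN (x / 128) (y / 128)).2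
  have hu : u ^ bb = ιQ t s h k (bb * ub) := by
    have := D.ub_lt
    rw [D.u_eq, ← pow_mul, mul_comm ub]
    have hle : bb * ub < 2 := by nlinarith
    interval_cases hc : bb * ub
    · rw [pow_zero, D.frame.ιQ_zero]
    · rw [pow_one, D.frame.ιQ_t]
  have hb : bb * ub < 128 := by
    have := D.ub_lt
    nlinarith
  have hq := qmul_lt (qmul_lt hxm la) hb
  have e : gmul wi ub x y = N * 128 + qmul (qmul (x % 128) (actW wi (x / 128) (y % 128))) (bb * ub) := by
    simp only [gmul, e1, e2, D.actL_eq hi hym]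
  rw [cι, cι, cι, e, Nat.mul_add_mod_self_right, Nat.mod_eq_of_lt hq,
    show (N * 128 + qmul (qmul (x % 128) (actW wi (x / 128) (y % 128))) (bb * ub)) / 128 = N by omega,
    ← D.frame.ιQ_mul (qmul_lt hxm la) hb, ← D.frame.ιQ_mul hxm la, ← hu]
  calc ιQ t s h k (x % 128) * rep s b w (x / 128) * (ιQ t s h k (y % 128) * rep s b w (y / 128))
      = ιQ t s h k (x % 128) * (rep s b w (x / 128) * ιQ t s h k (y % 128)) * rep s b w (y / 128) := by
        group
    _ = ιQ t s h k (x % 128) * ιQ t s h k (actW wi (x / 128) (y % 128)) *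
        (rep s b w (x / 128) * rep s b w (y / 128)) := by rw [ea]; group
    _ = _ := by rw [D.rels.rep_mul hi hj]; group; rfl

theorem cι_zero : cι t s b h k w 0 = 1 := by
  simp [cι, D.frame.ιQ_zero, rep, wordVal, wordN]

theorem cι_one : cι t s b h k w 1 = t := by
  simp [cι, D.frame.ιQ_t, rep, wordVal, wordN]

theorem cι_comm (x : ℕ) (hx : x < 21504) : cι t s b h k w x * t = t * cι t s b h k w x := by
  exact ((show Commute (ιQ t s h k (x % 128)) t from D.frame.comm_t _ (D.frame.ιQ_mem _)).mul_left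
    (D.wordVal_comm _ (wordN_lt (show x / 128 < 168 by omega)))).eq

theorem cι_inj {x y : ℕ} (hx : x < 21504) (hy : y < 21504)
    (e : cι t s b h k w x = cι t s b h k w y) : x = y := by
  have hxm := Nat.mod_lt x (by norm_num : 128 > 0)
  have hym := Nat.mod_lt y (by norm_num : 128 > 0)
  simp only [cι] at e
  have hn : x / 128 = y / 128 := D.sep _ _ (by omega) (by omega)
    ((ιQ t s h k (x % 128))⁻¹ * ιQ t s h k (y % 128))
    (Q.mul_mem (Q.inv_mem (D.frame.ιQ_mem _)) (D.frame.ιQ_mem _))
    (by rw [mul_assoc, ← e]; group)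
  rw [hn] at e
  have := D.frame.ιQ_inj hxm hym (mul_right_cancel e)
  omega

theorem cι_surj [Finite G] (hC : Nat.card (Subgroup.centralizer ({t} : Set G)) = 21504)
    {g : G} (hg : g * t = t * g) : ∃ x < 21504, cι t s b h k w x = g := by
  let f : Fin 21504 → Subgroup.centralizer ({t} : Set G) := fun x =>
    ⟨cι t s b h k w x, Subgroup.mem_centralizer_singleton_iff.mpr (D.cι_comm x x.2)⟩
  have hf : Function.Bijective f := (Nat.bijective_iff_injective_and_card f).mpr
    ⟨fun a b e => Fin.ext (D.cι_inj a.2 b.2 (congrArg Subtype.val e)), by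
      rw [hC, Nat.card_eq_fintype_card, Fintype.card_fin]⟩
  obtain ⟨x, hx⟩ := hf.2 ⟨g, Subgroup.mem_centralizer_singleton_iff.mpr hg⟩
  exact ⟨x.val, x.2, congrArg Subtype.val hx⟩

end Gen

end CfsgLib.HeUnique.Struct
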