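import Cfsg.Agent.Lib.HeUnique.Struct.OtherDefs

/-!
Finite facts of a possible centralizer, case 0.
-/

set_option autoImplicit false
set_option Elab.async false

namespace CfsgLib.HeUnique.Struct

/-- The data of case 0. -/
def other0 : Other := ⟨0, 1, otherReps0, otherInv0, [48, 48, 16, 8], [192, 192, 112, 32], otherLive0, otherE0⟩

theorem inv0_0 : CosetEnum.allUp other0.invCheck 13 0 = true := by decide +kernel
theorem inv0_1 : CosetEnum.allUp other0.invCheck 13 8192 = true := by decide +kernel
theorem inv0_2 : CosetEnum.allUp other0.invCheck 13 16384 = true := by decide +kernel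
theorem inv0_3 : CosetEnum.allUp other0.invCheck 13 24576 = true := by decide +kernel
theorem root0_0 : other0.rootTotal 0 = true := by decide +kernel
theorem cent0_0 : other0.centTotal 0 = true := by decide +kernel
theorem root0_1 : other0.rootTotal 1 = true := by decide +kernel
theorem cent0_1 : other0.centTotal 1 = true := by decide +kernel
theorem root0_2 : other0.rootTotal 2 = true := by decide +kernel
theorem cent0_2 : other0.centTotal 2 = true := by decide +kernel
theorem root0_3 : other0.rootTotal 3 = true := by decide +kernel
theorem cent0_3 : other0.centTotal 3 = true := by decide +kernel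
theorem small0 : other0.smallCheck = true := by decide +kernel

theorem other0_ok : other0.OK := by
  refine ⟨small0, (allUp_join (allUp_join inv0_0 inv0_1 (by norm_num)) (allUp_join inv0_2 inv0_3 (by norm_num)) (by norm_num)), fun i hi => ?_⟩
  rcases i with _ | _ | _ | _ | i
  · exact ⟨root0_0, cent0_0⟩
  · exact ⟨root0_1, cent0_1⟩
  · exact ⟨root0_2, cent0_2⟩
  · exact ⟨root0_3, cent0_3⟩
  · exact absurd hi (by simp [other0, otherReps0])

end CfsgLib.HeUnique.Struct
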