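import Cfsg.Agent.Lib.HeUnique.Struct.OtherDefs

/-!
Finite facts of a possible centralizer, case 1.
-/

set_option autoImplicit false
set_option Elab.async false

namespace CfsgLib.HeUnique.Struct

/-- The data of case 1. -/
def other1 : Other := ⟨1, 0, otherReps1, otherInv1, [0, 48, 8, 0], [24, 48, 16, 8], otherLive1, otherE1⟩

theorem inv1_0 : CosetEnum.allUp other1.invCheck 13 0 = true := by decide +kernel
theorem inv1_1 : CosetEnum.allUp other1.invCheck 13 8192 = true := by decide +kernel
theorem inv1_2 : CosetEnum.allUp other1.invCheck 13 16384 = true := by decide +kernel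
theorem inv1_3 : CosetEnum.allUp other1.invCheck 13 24576 = true := by decide +kernel
theorem root1_0 : other1.rootTotal 0 = true := by decide +kernel
theorem cent1_0 : other1.centTotal 0 = true := by decide +kernel
theorem root1_1 : other1.rootTotal 1 = true := by decide +kernel
theorem cent1_1 : other1.centTotal 1 = true := by decide +kernel
theorem root1_2 : other1.rootTotal 2 = true := by decide +kernel
theorem cent1_2 : other1.centTotal 2 = true := by decide +kernel
theorem root1_3 : other1.rootTotal 3 = true := by decide +kernel
theorem cent1_3 : other1.centTotal 3 = true := by decide +kernel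
theorem small1 : other1.smallCheck = true := by decide +kernel

theorem other1_ok : other1.OK := by
  refine ⟨small1, (allUp_join (allUp_join inv1_0 inv1_1 (by norm_num)) (allUp_join inv1_2 inv1_3 (by norm_num)) (by norm_num)), fun i hi => ?_⟩
  rcases i with _ | _ | _ | _ | i
  · exact ⟨root1_0, cent1_0⟩
  · exact ⟨root1_1, cent1_1⟩
  · exact ⟨root1_2, cent1_2⟩
  · exact ⟨root1_3, cent1_3⟩
  · exact absurd hi (by simp [other1, otherReps1])

end CfsgLib.HeUnique.Struct
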