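import Cfsg.Agent.Lib.HeUnique.Struct.OtherDefs

/-!
Finite facts of a possible centralizer, case 2.
-/

set_option autoImplicit false
set_option Elab.async false

namespace CfsgLib.HeUnique.Struct

/-- The data of case 2. -/
def other2 : Other := ⟨1, 1, otherReps2, otherInv2, [0, 48, 8], [72, 192, 56], otherLive2, otherE2⟩

theorem inv2_0 : CosetEnum.allUp other2.invCheck 13 0 = true := by decide +kernel
theorem inv2_1 : CosetEnum.allUp other2.invCheck 13 8192 = true := by decide +kernel
theorem inv2_2 : CosetEnum.allUp other2.invCheck 13 16384 = true := by decide +kernel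
theorem inv2_3 : CosetEnum.allUp other2.invCheck 13 24576 = true := by decide +kernel
theorem root2_0 : other2.rootTotal 0 = true := by decide +kernel
theorem cent2_0 : other2.centTotal 0 = true := by decide +kernel
theorem root2_1 : other2.rootTotal 1 = true := by decide +kernel
theorem cent2_1 : other2.centTotal 1 = true := by decide +kernel
theorem root2_2 : other2.rootTotal 2 = true := by decide +kernel
theorem cent2_2 : other2.centTotal 2 = true := by decide +kernel
theorem small2 : other2.smallCheck = true := by decide +kernel

theorem other2_ok : other2.OK := by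
  refine ⟨small2, (allUp_join (allUp_join inv2_0 inv2_1 (by norm_num)) (allUp_join inv2_2 inv2_3 (by norm_num)) (by norm_num)), fun i hi => ?_⟩
  rcases i with _ | _ | _ | i
  · exact ⟨root2_0, cent2_0⟩
  · exact ⟨root2_1, cent2_1⟩
  · exact ⟨root2_2, cent2_2⟩
  · exact absurd hi (by simp [other2, otherReps2])

end CfsgLib.HeUnique.Struct
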