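import Cfsg.Agent.Lib.HeUnique.Struct.OtherDefs

/-!
Finite facts of a possible centralizer, case 3.
-/

set_option autoImplicit false
set_option Elab.async false

namespace CfsgLib.HeUnique.Struct

/-- The data of case 3. -/
def other3 : Other := ⟨2, 0, otherReps3, otherInv3, [48, 0, 8, 0], [48, 24, 16, 8], otherLive3, otherE3⟩

theorem inv3_0 : CosetEnum.allUp other3.invCheck 13 0 = true := by decide +kernel
theorem inv3_1 : CosetEnum.allUp other3.invCheck 13 8192 = true := by decide +kernel
theorem inv3_2 : CosetEnum.allUp other3.invCheck 13 16384 = true := by decide +kernel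
theorem inv3_3 : CosetEnum.allUp other3.invCheck 13 24576 = true := by decide +kernel
theorem root3_0 : other3.rootTotal 0 = true := by decide +kernel
theorem cent3_0 : other3.centTotal 0 = true := by decide +kernel
theorem root3_1 : other3.rootTotal 1 = true := by decide +kernel
theorem cent3_1 : other3.centTotal 1 = true := by decide +kernel
theorem root3_2 : other3.rootTotal 2 = true := by decide +kernel
theorem cent3_2 : other3.centTotal 2 = true := by decide +kernel
theorem root3_3 : other3.rootTotal 3 = true := by decide +kernel
theorem cent3_3 : other3.centTotal 3 = true := by decide +kernel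
theorem small3 : other3.smallCheck = true := by decide +kernel

theorem other3_ok : other3.OK := by
  refine ⟨small3, (allUp_join (allUp_join inv3_0 inv3_1 (by norm_num)) (allUp_join inv3_2 inv3_3 (by norm_num)) (by norm_num)), fun i hi => ?_⟩
  rcases i with _ | _ | _ | _ | i
  · exact ⟨root3_0, cent3_0⟩
  · exact ⟨root3_1, cent3_1⟩
  · exact ⟨root3_2, cent3_2⟩
  · exact ⟨root3_3, cent3_3⟩
  · exact absurd hi (by simp [other3, otherReps3])

end CfsgLib.HeUnique.Struct
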