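import Cfsg.Agent.Lib.HeUnique.Struct.OtherDefs

/-!
Finite facts of a possible centralizer, case 4.
-/

set_option autoImplicit false
set_option Elab.async false

namespace CfsgLib.HeUnique.Struct

/-- The data of case 4. -/
def other4 : Other := ⟨2, 1, otherReps4, otherInv4, [48, 0, 8], [192, 72, 56], otherLive4, otherE4⟩

theorem inv4_0 : CosetEnum.allUp other4.invCheck 13 0 = true := by decide +kernel
theorem inv4_1 : CosetEnum.allUp other4.invCheck 13 8192 = true := by decide +kernel
theorem inv4_2 : CosetEnum.allUp other4.invCheck 13 16384 = true := by decide +kernel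
theorem inv4_3 : CosetEnum.allUp other4.invCheck 13 24576 = true := by decide +kernel
theorem root4_0 : other4.rootTotal 0 = true := by decide +kernel
theorem cent4_0 : other4.centTotal 0 = true := by decide +kernel
theorem root4_1 : other4.rootTotal 1 = true := by decide +kernel
theorem cent4_1 : other4.centTotal 1 = true := by decide +kernel
theorem root4_2 : other4.rootTotal 2 = true := by decide +kernel
theorem cent4_2 : other4.centTotal 2 = true := by decide +kernel
theorem small4 : other4.smallCheck = true := by decide +kernel

theorem other4_ok : other4.OK := by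
  refine ⟨small4, (allUp_join (allUp_join inv4_0 inv4_1 (by norm_num)) (allUp_join inv4_2 inv4_3 (by norm_num)) (by norm_num)), fun i hi => ?_⟩
  rcases i with _ | _ | _ | i
  · exact ⟨root4_0, cent4_0⟩
  · exact ⟨root4_1, cent4_1⟩
  · exact ⟨root4_2, cent4_2⟩
  · exact absurd hi (by simp [other4, otherReps4])

end CfsgLib.HeUnique.Struct
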