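import Cfsg.Agent.Lib.HeUnique.Struct.Model

/-!
The finite checks on the centralizers other than that of a transvection.
-/

set_option autoImplicit false

namespace CfsgLib.HeUnique.Struct

/-- The number of `b` in the scanned range with `f b`. -/
noncomputable def countUp (f : ℕ → Bool) (k : ℕ) : ℕ → ℕ :=
  Nat.rec (fun b => bif f b then 1 else 0)
    (fun k ih base => CosetEnum.strict base fun b => Nat.add (ih b) (ih (Nat.add b (Nat.pow 2 k)))) k

theorem countUp_eq (f : ℕ → Bool) : ∀ k base,
    countUp f k base = ((List.range' base (2 ^ k)).filter f).length
  | 0, base => by
    show (bif f base then 1 else 0) = _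
    cases h : f base <;> simp [h]
  | k + 1, base => by
    show CosetEnum.strict base (fun b => countUp f k b + countUp f k (b + 2 ^ k)) = _
    rw [CosetEnum.strict_eq, countUp_eq f k, countUp_eq f k, pow_succ, Nat.mul_two,
      ← List.range'_append, List.filter_append, List.length_append, one_mul]

/-- The data of one of the centralizers. -/
structure Other where
  /-- the table of the third letter -/
  wi : ℕ
  /-- the square of the third letter -/
  ub : ℕ
  /-- representatives of the classes of involutions -/
  reps : List ℕ
  /-- the involutions with class and conjugator -/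
  inv : List (ℕ × ℕ × ℕ)
  /-- the numbers of square roots of the representatives -/
  n1 : List ℕ
  /-- the numbers of square roots of the centre fixing the representatives -/
  n2 : List ℕ
  /-- the classes that may be fused -/
  live : List ℕ
  /-- the elementary subgroup -/
  E : List ℕ

namespace Other

variable (O : Other)

/-- The product. -/
noncomputable def mul (x y : ℕ) : ℕ := gmul O.wi O.ub x y

/-- All involutions are listed. -/
noncomputable def invCheck (x : ℕ) : Bool :=
  bif decide (x < 21504) && O.mul x x == 0 then x == 0 || x == 1 || O.inv.any (fun e => e.1 == x)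
  else true

/-- The number of square roots of a representative. -/
noncomputable def rootTotal (i : ℕ) : Bool :=
  countUp (fun k => decide (k < 21504) && O.mul k k == O.reps.getD i 0) 15 0 == O.n1.getD i 0

/-- The number of square roots of the centre fixing a representative. -/
noncomputable def centTotal (i : ℕ) : Bool :=
  countUp (fun k => decide (k < 21504) && (O.mul k k == 1 &&
    O.mul k (O.reps.getD i 0) == O.mul (O.reps.getD i 0) k)) 15 0 == O.n2.getD i 0

/-- The small checks. -/
noncomputable def smallCheck : Bool :=
  decide (O.wi < 3) && decide (O.ub < 2) &&
  (O.reps.all fun r => decide (r < 21504) && !(r == 0) && !(r == 1) && O.mul r r == 0) &&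
  (O.inv.all fun e => decide (e.1 < 21504) && decide (e.2.1 < O.reps.length) &&
    decide (e.2.2 < 21504) && O.mul e.2.2 (O.reps.getD e.2.1 0) == O.mul e.1 e.2.2) &&
  ((List.range (2 ^ O.reps.length)).all fun m =>
    !((List.range O.reps.length).all fun i => !(m.testBit i) ||
      (List.range O.reps.length).any fun j => m.testBit j && O.n1.getD i 0 == O.n2.getD j 0) ||
    (List.range O.reps.length).all fun i => !(m.testBit i) || O.live.contains i) &&
  decide (O.live.length ≤ 1) &&
  (O.live.isEmpty || (O.E.length == 16 && decide O.E.Nodup && O.E.contains 0 && O.E.contains 1 &&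
    (O.E.all fun x => decide (x < 21504)) &&
    (O.E.all fun x => O.E.all fun y => O.mul x y == O.mul y x && O.E.contains (O.mul x y)) &&
    (O.inv.all fun e => O.live.contains e.2.1 == O.E.contains e.1) &&
    (O.E.all fun x => x == 0 || x == 1 || O.inv.any (fun e => e.1 == x))))

/-- All checks. -/
structure OK : Prop where
  small : O.smallCheck = true
  inv : CosetEnum.allUp O.invCheck 15 0 = true
  counts : ∀ i, i < O.reps.length → O.rootTotal i = true ∧ O.centTotal i = true

end Other

end CfsgLib.HeUnique.Struct
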