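import Cfsg.Agent.Lib.HeUnique.Struct.SLTables

/-!
The split case is the centralizer of a transvection.
-/

set_option autoImplicit false

namespace CfsgLib.HeUnique.Struct

theorem psi_special : psi one = 0 ∧ psi zc = 1 := by decide +kernel

theorem psi_spec {x : ℕ} (hx : ok x = true) : psi x < 21504 ∧ phi (psi x) = x := by
  have h := CosetEnum.allUp_spec (allUp_join (allUp_join (allUp_join (allUp_join psi_0 psi_1 (by norm_num)) (allUp_join psi_2 psi_3 (by norm_num)) (by norm_num)) (allUp_join (allUp_join psi_4 psi_5 (by norm_num)) (allUp_join psi_6 psi_7 (by norm_num)) (by norm_num)) (by norm_num)) (allUp_join (allUp_join (allUp_join psi_8 psi_9 (by norm_num)) (allUp_join psi_10 psi_11 (by norm_num)) (by norm_num)) (allUp_join (allUp_join psi_12 psi_13 (by norm_num)) (allUp_join psi_14 psi_15 (by norm_num)) (by norm_num)) (by norm_num)) (by norm_num)) x (Nat.zero_le _)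
    (by have := ok_lt hx; norm_num; omega)
  simpa only [psiCheck, hx, decide_eq_true (ok_lt hx), Bool.and_self, cond_true, Bool.and_eq_true,
    decide_eq_true_eq] using h

theorem psi_phi {a : ℕ} (ha : a < 21504) : psi (phi a) = a := by
  have h := CosetEnum.allUp_spec psi_phi_scan a (Nat.zero_le _) (by norm_num; omega)
  simpa only [psiPhiCheck, decide_eq_true ha, cond_true, decide_eq_true_eq] using h

theorem phi_gmul {x y : ℕ} (hx : x < 21504) (hy : y < 21504) :
    cmul (phi x) (phi y) = phi (gmul 0 0 x y) ∧ gmul 0 0 x y < 21504 := by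
  set i := x / 128
  set j := y / 128
  set p := x % 128
  set q := y % 128
  have hi : i < 168 := by omega
  have hj : j < 168 := by omega
  have hp : p < 128 := Nat.mod_lt _ (by norm_num)
  have hq : q < 128 := Nat.mod_lt _ (by norm_num)
  have oE : ∀ {q}, q < 128 → ok (elQ q) = true := fun hq =>
    List.all_eq_true.mp elQ_ok.1 _ (List.mem_range.mpr hq)
  have oR : ∀ {n}, n < 168 → ok (repC n) = true := fun hn =>
    List.all_eq_true.mp elQ_ok.2 _ (List.mem_range.mpr hn)
  obtain ⟨e1, e2⟩ := mulL_eq hi hj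
  have hN := (lmulN_lt hi hj).2
  have la : actL 0 i q < 128 := Nat.mod_lt _ (by norm_num)
  have hm : ∀ {a b}, a < 128 → b < 128 → cmul (elQ a) (elQ b) = elQ (qmul a b) := by
    intro a b ha hb
    have h := CosetEnum.allUp_spec elQ_mul (a * 128 + b) (Nat.zero_le _) (by norm_num; omega)
    simpa only [elMulCheck, decide_eq_true_eq, show (a * 128 + b) / 128 = a by omega,
      show (a * 128 + b) % 128 = b by omega] using h
  have hs : cmul (repC i) (elQ q) = cmul (elQ (actL 0 i q)) (repC i) := by
    have h := CosetEnum.allUp_spec repC_act (i * 128 + q) (Nat.zero_le _) (by norm_num; omega)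
    simpa only [repActCheck, decide_eq_true (show i * 128 + q < 21504 by omega), cond_true, decide_eq_true_eq,
      show (i * 128 + q) / 128 = i by omega, show (i * 128 + q) % 128 = q by omega] using h
  have hr : cmul (repC i) (repC j) = repC (mulL i j / 2) := by
    have h := CosetEnum.allUp_spec repC_mul (i * 168 + j) (Nat.zero_le _) (by norm_num; omega)
    simpa only [repMulCheck, decide_eq_true (show i * 168 + j < 28224 by omega), cond_true, decide_eq_true_eq,
      show (i * 168 + j) / 168 = i by omega, show (i * 168 + j) % 168 = j by omega] using h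
  have hA := qmul_lt hp la
  have e0 : ∀ {z : ℕ}, z < 128 → qmul z 0 = z := fun {z} hz => by
    have : ∀ z : Fin 128, qmul z 0 = z.val := by decide +kernel
    exact this ⟨z, hz⟩
  have eg : gmul 0 0 x y = mulL i j / 2 * 128 + qmul p (actL 0 i q) := by
    simp only [gmul, mul_zero]
    rw [e0 hA]
  refine ⟨?_, by rw [eg, e1]; omega⟩
  rw [eg, show phi (mulL i j / 2 * 128 + qmul p (actL 0 i q)) =
      cmul (elQ (qmul p (actL 0 i q))) (repC (mulL i j / 2)) by
    simp only [phi]
    rw [Nat.mul_add_mod_self_right, Nat.mod_eq_of_lt hA,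
      show (mulL i j / 2 * 128 + qmul p (actL 0 i q)) / 128 = mulL i j / 2 by omega]]
  show cmul (cmul (elQ p) (repC i)) (cmul (elQ q) (repC j)) = _
  rw [cmul_assoc (oE hp) (oR hi) (ok_cmul (oE hq) (oR hj)),
    ← cmul_assoc (oR hi) (oE hq) (oR hj), hs, cmul_assoc (oE la) (oR hi) (oR hj), hr,
    ← cmul_assoc (oE hp) (oE la) (oR (by rw [e1]; exact hN)), hm hp la]

variable {G : Type*} [Group G] [Finite G] {t : G} {Q : Subgroup G} {s b h k w u : G}

theorem Gen.toRep (D : Gen t Q s b h k w u 0 0)
    (hC : Nat.card (Subgroup.centralizer ({t} : Set G)) = 21504) :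
    Rep t fun x => cι t s b h k w (psi x) := by
  refine ⟨fun x y hx hy => ?_, ?_, fun x y hx hy e => ?_, ?_, fun g hg => ?_⟩
  · obtain ⟨lx, ex⟩ := psi_spec hx
    obtain ⟨ly, ey⟩ := psi_spec hy
    obtain ⟨e, l⟩ := phi_gmul lx ly
    show cι t s b h k w (psi (cmul x y)) = _
    nth_rewrite 1 [← ex, ← ey]
    rw [e, psi_phi l, D.cι_mul lx ly]
  · show cι t s b h k w (psi one) = 1
    rw [psi_special.1, D.cι_zero]
  · obtain ⟨lx, ex⟩ := psi_spec hx
    obtain ⟨ly, ey⟩ := psi_spec hy
    rw [← ex, ← ey, D.cι_inj lx ly e]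
  · show cι t s b h k w (psi zc) = t
    rw [psi_special.2, D.cι_one]
  · obtain ⟨a, ha, rfl⟩ := D.cι_surj hC hg
    refine ⟨phi a, ?_, by show cι t s b h k w (psi (phi a)) = _; rw [psi_phi ha]⟩
    exact ok_cmul (List.all_eq_true.mp elQ_ok.1 _ (List.mem_range.mpr (Nat.mod_lt _ (by norm_num))))
      (List.all_eq_true.mp elQ_ok.2 _ (List.mem_range.mpr (by omega)))

end CfsgLib.HeUnique.Struct
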