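import Cfsg.Agent.Lib.HeUnique.Struct.Model

/-!
The tables of the split case against the coded centralizer of a transvection.
-/

set_option autoImplicit false
set_option Elab.async false

namespace CfsgLib.HeUnique.Struct

/-- A vector as a code. -/
def elQ (q : ℕ) : ℕ := 273 * 128 + q

/-- A normal form as a code. -/
def repC (n : ℕ) : ℕ := slRep.getD n 273 * 128

/-- A code of the split case as a code. -/
def phi (x : ℕ) : ℕ := cmul (elQ (x % 128)) (repC (x / 128))

/-- The converse map. -/
noncomputable def psi (x : ℕ) : ℕ :=
  let n := Nat.mod (Nat.shiftRight (slIdx.get 4096 0) (8 * (x / 128))) 256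
  n * 128 + cmul x (cinv (repC n)) % 128

theorem elQ_ok : ((List.range 128).all fun q => ok (elQ q)) = true ∧
    ((List.range 168).all fun n => ok (repC n)) = true := by
  decide +kernel

/-- One entry. -/
noncomputable def elMulCheck (p : ℕ) : Bool := decide
    (cmul (elQ (p / 128)) (elQ (p % 128)) = elQ (qmul (p / 128) (p % 128)))

theorem elQ_mul_0 : CosetEnum.allUp elMulCheck 12 0 = true := by decide +kernel
theorem elQ_mul_1 : CosetEnum.allUp elMulCheck 12 4096 = true := by decide +kernel
theorem elQ_mul_2 : CosetEnum.allUp elMulCheck 12 8192 = true := by decide +kernel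
theorem elQ_mul_3 : CosetEnum.allUp elMulCheck 12 12288 = true := by decide +kernel

theorem elQ_mul : CosetEnum.allUp elMulCheck 14 0 = true :=
  (allUp_join (allUp_join elQ_mul_0 elQ_mul_1 (by norm_num)) (allUp_join elQ_mul_2 elQ_mul_3 (by norm_num)) (by norm_num))

/-- One entry. -/
noncomputable def repActCheck (p : ℕ) : Bool := bif decide (p < 21504) then decide
    (cmul (repC (p / 128)) (elQ (p % 128)) =
      cmul (elQ (actL 0 (p / 128) (p % 128))) (repC (p / 128))) else true

theorem repC_act_0 : CosetEnum.allUp repActCheck 12 0 = true := by decide +kernel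
theorem repC_act_1 : CosetEnum.allUp repActCheck 12 4096 = true := by decide +kernel
theorem repC_act_2 : CosetEnum.allUp repActCheck 12 8192 = true := by decide +kernel
theorem repC_act_3 : CosetEnum.allUp repActCheck 12 12288 = true := by decide +kernel
theorem repC_act_4 : CosetEnum.allUp repActCheck 12 16384 = true := by decide +kernel
theorem repC_act_5 : CosetEnum.allUp repActCheck 12 20480 = true := by decide +kernel
theorem repC_act_6 : CosetEnum.allUp repActCheck 12 24576 = true := by decide +kernel
theorem repC_act_7 : CosetEnum.allUp repActCheck 12 28672 = true := by decide +kernel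

theorem repC_act : CosetEnum.allUp repActCheck 15 0 = true :=
  (allUp_join (allUp_join (allUp_join repC_act_0 repC_act_1 (by norm_num)) (allUp_join repC_act_2 repC_act_3 (by norm_num)) (by norm_num)) (allUp_join (allUp_join repC_act_4 repC_act_5 (by norm_num)) (allUp_join repC_act_6 repC_act_7 (by norm_num)) (by norm_num)) (by norm_num))

/-- One entry. -/
noncomputable def repMulCheck (p : ℕ) : Bool := bif decide (p < 28224) then decide
    (cmul (repC (p / 168)) (repC (p % 168)) = repC (mulL (p / 168) (p % 168) / 2)) else true

theorem repC_mul_0 : CosetEnum.allUp repMulCheck 12 0 = true := by decide +kernel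
theorem repC_mul_1 : CosetEnum.allUp repMulCheck 12 4096 = true := by decide +kernel
theorem repC_mul_2 : CosetEnum.allUp repMulCheck 12 8192 = true := by decide +kernel
theorem repC_mul_3 : CosetEnum.allUp repMulCheck 12 12288 = true := by decide +kernel
theorem repC_mul_4 : CosetEnum.allUp repMulCheck 12 16384 = true := by decide +kernel
theorem repC_mul_5 : CosetEnum.allUp repMulCheck 12 20480 = true := by decide +kernel
theorem repC_mul_6 : CosetEnum.allUp repMulCheck 12 24576 = true := by decide +kernel
theorem repC_mul_7 : CosetEnum.allUp repMulCheck 12 28672 = true := by decide +kernel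

theorem repC_mul : CosetEnum.allUp repMulCheck 15 0 = true :=
  (allUp_join (allUp_join (allUp_join repC_mul_0 repC_mul_1 (by norm_num)) (allUp_join repC_mul_2 repC_mul_3 (by norm_num)) (by norm_num)) (allUp_join (allUp_join repC_mul_4 repC_mul_5 (by norm_num)) (allUp_join repC_mul_6 repC_mul_7 (by norm_num)) (by norm_num)) (by norm_num))

/-- The check of the converse map. -/
noncomputable def psiCheck (x : ℕ) : Bool :=
  bif decide (x < 65536) && ok x then decide (psi x < 21504) && decide (phi (psi x) = x) else true

theorem psi_0 : CosetEnum.allUp psiCheck 12 0 = true := by decide +kernel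
theorem psi_1 : CosetEnum.allUp psiCheck 12 4096 = true := by decide +kernel
theorem psi_2 : CosetEnum.allUp psiCheck 12 8192 = true := by decide +kernel
theorem psi_3 : CosetEnum.allUp psiCheck 12 12288 = true := by decide +kernel
theorem psi_4 : CosetEnum.allUp psiCheck 12 16384 = true := by decide +kernel
theorem psi_5 : CosetEnum.allUp psiCheck 12 20480 = true := by decide +kernel
theorem psi_6 : CosetEnum.allUp psiCheck 12 24576 = true := by decide +kernel
theorem psi_7 : CosetEnum.allUp psiCheck 12 28672 = true := by decide +kernel
theorem psi_8 : CosetEnum.allUp psiCheck 12 32768 = true := by decide +kernel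
theorem psi_9 : CosetEnum.allUp psiCheck 12 36864 = true := by decide +kernel
theorem psi_10 : CosetEnum.allUp psiCheck 12 40960 = true := by decide +kernel
theorem psi_11 : CosetEnum.allUp psiCheck 12 45056 = true := by decide +kernel
theorem psi_12 : CosetEnum.allUp psiCheck 12 49152 = true := by decide +kernel
theorem psi_13 : CosetEnum.allUp psiCheck 12 53248 = true := by decide +kernel
theorem psi_14 : CosetEnum.allUp psiCheck 12 57344 = true := by decide +kernel
theorem psi_15 : CosetEnum.allUp psiCheck 12 61440 = true := by decide +kernel

/-- One entry. -/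
noncomputable def psiPhiCheck (a : ℕ) : Bool := bif decide (a < 21504) then
    decide (psi (phi a) = a) else true

theorem psi_phi_scan_0 : CosetEnum.allUp psiPhiCheck 12 0 = true := by decide +kernel
theorem psi_phi_scan_1 : CosetEnum.allUp psiPhiCheck 12 4096 = true := by decide +kernel
theorem psi_phi_scan_2 : CosetEnum.allUp psiPhiCheck 12 8192 = true := by decide +kernel
theorem psi_phi_scan_3 : CosetEnum.allUp psiPhiCheck 12 12288 = true := by decide +kernel
theorem psi_phi_scan_4 : CosetEnum.allUp psiPhiCheck 12 16384 = true := by decide +kernel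
theorem psi_phi_scan_5 : CosetEnum.allUp psiPhiCheck 12 20480 = true := by decide +kernel
theorem psi_phi_scan_6 : CosetEnum.allUp psiPhiCheck 12 24576 = true := by decide +kernel
theorem psi_phi_scan_7 : CosetEnum.allUp psiPhiCheck 12 28672 = true := by decide +kernel

theorem psi_phi_scan : CosetEnum.allUp psiPhiCheck 15 0 = true :=
  (allUp_join (allUp_join (allUp_join psi_phi_scan_0 psi_phi_scan_1 (by norm_num)) (allUp_join psi_phi_scan_2 psi_phi_scan_3 (by norm_num)) (by norm_num)) (allUp_join (allUp_join psi_phi_scan_4 psi_phi_scan_5 (by norm_num)) (allUp_join psi_phi_scan_6 psi_phi_scan_7 (by norm_num)) (by norm_num)) (by norm_num))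

end CfsgLib.HeUnique.Struct
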