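import Cfsg.Agent.Lib.HeUnique.Struct.Cands

/-!
Normalisation of the third generator.
-/

set_option autoImplicit false

namespace CfsgLib.HeUnique.Struct

theorem basis_codes :
    gens6 = [16, qmul 96 64, 64, qmul 4 6, 4, qmul (qmul 4 6) 10] ∧
    bInv 16 = bInv 16 ∧ act imB 16 = 64 ∧ act imB 6 = 10 ∧ act imB 96 = 96 ∧ act imB 4 = 4 ∧
    qmul 96 96 = 0 ∧ qmul 16 16 = 0 ∧ qmul 4 4 = 0 ∧ qmul 6 6 = 0 ∧ qmul 4 6 = qmul 6 4 ∧
    qmul 96 16 = qmul 16 96 ∧ qmul 96 4 = qmul (qmul 4 96) 1 ∧ qmul 96 6 = qmul (qmul 6 96) 1 ∧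
    qmul 16 4 = qmul 4 16 ∧ qmul 16 6 = qmul (qmul 6 16) 1 := by
  decide +kernel

theorem qconj_half : ∀ q g : Fin 128, qconj q g / 2 = g.val / 2 := by decide +kernel

theorem qmul_one_ne : ∀ x : Fin 128, qmul x 1 ≠ x.val := by decide +kernel

theorem mem_gens6 {g : ℕ} (hg : g ∈ gens6) : ∃ i < 6, gens6.getD i 0 = g := by
  obtain ⟨i, hi, rfl⟩ := List.getElem_of_mem hg
  exact ⟨i, hi, List.getD_eq_getElem _ _ hi⟩

variable {G : Type*} [Group G] {t : G} {Q : Subgroup G} {s b h k : G}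

theorem ActsBy.two {g1 g2 : G} {im1 im2 : List ℕ} (h1 : ActsBy t s h k g1 im1)
    (h2 : ActsBy t s h k g2 im2) {q : ℕ} (hq : q < 128) :
    act im1 (act im2 q) < 128 ∧
      g1 * g2 * ιQ t s h k q * (g1 * g2)⁻¹ = ιQ t s h k (act im1 (act im2 q)) := by
  obtain ⟨l2, e2⟩ := h2 q hq
  obtain ⟨l1, e1⟩ := h1 _ l2
  refine ⟨l1, ?_⟩
  rw [← e1, ← e2]; group

namespace Frame

variable (F : Frame t Q s b h k)
include F

theorem ιQ_qconj {q g : ℕ} (hq : q < 128) (hg : g < 128) :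
    qconj q g < 128 ∧
      ιQ t s h k q * ιQ t s h k g * (ιQ t s h k q)⁻¹ = ιQ t s h k (qconj q g) := by
  obtain ⟨l, e⟩ := qconj_ok ⟨q, hq⟩ ⟨g, hg⟩
  refine ⟨l, ?_⟩
  rw [mul_inv_eq_iff_eq_mul, F.ιQ_mul hq hg, F.ιQ_mul l hq, e]

theorem b_inv_acts {q : ℕ} (hq : q < 128) :
    bInv q < 128 ∧ b⁻¹ * ιQ t s h k q * b = ιQ t s h k (bInv q) := by
  obtain ⟨l, e⟩ := F.actsB.two F.actsB hq
  refine ⟨l, ?_⟩
  have hb : b * b = b⁻¹ := eq_inv_of_mul_eq_one_left (by rw [← F.b3, pow_succ, pow_two])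
  rw [hb, inv_inv] at e
  exact e

theorem bases_eq : ιQ t s h k 16 = sh s 1 h ∧ ιQ t s h k 96 = h ∧ ιQ t s h k 4 = k ∧
    ιQ t s h k 6 = sh s 1 k := by
  have h2 := F.sqH 2
  have k0 := F.pair.exK.sq
  refine ⟨?_, ?_, ?_, ?_⟩ <;> simp [ιQ, P3, fS, fR, fC, bit, rGen, sGen]
  · rw [mul_assoc, h2, mul_one]
  · rw [mul_assoc, ← F.c0K 1, ← mul_assoc, k0, one_mul]

theorem central_eq {g : G} (hg : g * t = t * g)
    (hfix : ∀ q < 128, g * ιQ t s h k q * g⁻¹ = ιQ t s h k q) [Finite G] : g = 1 ∨ g = t := by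
  refine F.self g hg fun q hq => ?_
  obtain ⟨x, hx, rfl⟩ := F.ιQ_surj hq
  exact mul_inv_eq_iff_eq_mul.mp (hfix x hx)

theorem exists_third [Finite G] {w : G} (hwt : w * t = t * w) (hwb : w * b * w⁻¹ = b⁻¹)
    (hw2 : w * w ∈ Q) (hsw : (s * w) ^ 3 ∈ Q) :
    ∃ w' im, im ∈ repsW ∧ w' * t = t * w' ∧ w' * b * w'⁻¹ = b⁻¹ ∧ ActsBy t s h k w' im ∧
      (s * w') ^ 3 = 1 ∧ (w' * w' = 1 ∨ w' * w' = t) ∧ ∃ q ∈ Q, w' = w * q := by
  have hex : ∀ x < 128, ∃ y < 128, (ιQ t s h k) y = w * (ιQ t s h k) x * w⁻¹ := fun x _ =>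
    F.ιQ_surj (F.norm w hwt _ (F.ιQ_mem x))
  obtain ⟨e16, e96, e4, e6⟩ := F.bases_eq
  obtain ⟨hg6, -, b16, b6, b96, b4, c00, c11, d00, d11, d01, c01, m00, m01, m10, m11⟩ := basis_codes
  have bw : b * w = w * b⁻¹ := by
    calc b * w = (w * b * w⁻¹)⁻¹ * w := by rw [hwb, inv_inv]
      _ = w * b⁻¹ := by group
  have wb' : w * b = b⁻¹ * w := by rw [← hwb]; group
  obtain ⟨a0, la0, ha0⟩ := hex 96 (by norm_num)
  obtain ⟨a1, la1, ha1⟩ := hex 16 (by norm_num)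
  obtain ⟨b0, lb0, hb0⟩ := hex 4 (by norm_num)
  obtain ⟨b1, lb1, hb1⟩ := hex 6 (by norm_num)
  have fixed : ∀ {x y : ℕ}, x < 128 → y < 128 → act imB x = x → (ιQ t s h k) y = w * (ιQ t s h k) x * w⁻¹ →
      y ∈ fixB := by
    intro x y hx hy hfx e
    refine fix_list ⟨y, hy⟩ ?_
    obtain ⟨l, ey⟩ := F.actsB y hy
    refine F.ιQ_inj l hy ?_
    obtain ⟨-, ex⟩ := F.actsB x hx
    rw [hfx] at ex
    calc (ιQ t s h k) (act imB y) = b * w * (ιQ t s h k) x * (b * w)⁻¹ := by rw [← ey, e]; group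
      _ = w * (b⁻¹ * (ιQ t s h k) x * b) * w⁻¹ := by rw [bw]; group
      _ = w * (ιQ t s h k) x * w⁻¹ := by
        rw [show b⁻¹ * (ιQ t s h k) x * b = (ιQ t s h k) x by nth_rewrite 1 [← ex]; group]
      _ = (ιQ t s h k) y := e.symm
  have fa0 := fixed (by norm_num) la0 b96 ha0
  have fb0 := fixed (by norm_num) lb0 b4 hb0
  set im := imOf a0 a1 b0 b1
  have la2 := F.b_inv_acts la1
  have lb2 := F.b_inv_acts lb1
  have lim : ∀ i < 6, im.getD i 0 < 128 := by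
    intro i hi
    interval_cases i
    exacts [la1, qmul_lt la0 la2.1, la2.1, qmul_lt lb0 lb1, lb0,
      qmul_lt (qmul_lt lb0 lb1) lb2.1]
  have cw : ∀ x y : G, w * (x * y) * w⁻¹ = w * x * w⁻¹ * (w * y * w⁻¹) := fun x y => by group
  have two : ∀ {y x : ℕ}, y < 128 → x < 128 → act imB x < 128 → (ιQ t s h k) y = w * (ιQ t s h k) x * w⁻¹ →
      (ιQ t s h k) (bInv y) = w * (ιQ t s h k) (act imB x) * w⁻¹ := by
    intro y x hy hx _ e
    obtain ⟨-, ey⟩ := F.b_inv_acts hy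
    obtain ⟨-, ex⟩ := F.actsB x hx
    rw [← ey, ← ex, e]
    calc b⁻¹ * (w * (ιQ t s h k) x * w⁻¹) * b = b⁻¹ * w * (ιQ t s h k) x * (b⁻¹ * w)⁻¹ := by group
      _ = w * b * (ιQ t s h k) x * (w * b)⁻¹ := by rw [wb']
      _ = _ := by group
  have ha2 := two la1 (by norm_num : 16 < 128) (by rw [b16]; norm_num) ha1
  have hb2 := two lb1 (by norm_num : 6 < 128) (by rw [b6]; norm_num) hb1
  rw [b16] at ha2
  rw [b6] at hb2
  have hW : ActsBy t s h k w im := by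
    refine F.actsBy hwt lim fun i hi => ?_
    rw [hg6]
    interval_cases i
    · exact ha1.symm
    · show w * (ιQ t s h k) (qmul 96 64) * w⁻¹ = (ιQ t s h k) (qmul a0 (bInv a1))
      rw [← F.ιQ_mul (by norm_num : 96 < 128) (by norm_num : 64 < 128), ← F.ιQ_mul la0 la2.1, cw,
        ← ha0, ← ha2]
    · exact ha2.symm
    · show w * (ιQ t s h k) (qmul 4 6) * w⁻¹ = (ιQ t s h k) (qmul b0 b1)
      rw [← F.ιQ_mul (by norm_num : 4 < 128) (by norm_num : 6 < 128), ← F.ιQ_mul lb0 lb1, cw,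
        ← hb0, ← hb1]
    · exact hb0.symm
    · show w * (ιQ t s h k) (qmul (qmul 4 6) 10) * w⁻¹ = (ιQ t s h k) (qmul (qmul b0 b1) (bInv b1))
      rw [← F.ιQ_mul (qmul_lt (by norm_num) (by norm_num)) (by norm_num : 10 < 128),
        ← F.ιQ_mul (by norm_num : 4 < 128) (by norm_num : 6 < 128),
        ← F.ιQ_mul (qmul_lt lb0 lb1) lb2.1, ← F.ιQ_mul lb0 lb1, cw, cw, ← hb0, ← hb1, ← hb2]
  have hom : ∀ {x y : ℕ}, x < 128 → y < 128 →
      qmul (act im x) (act im y) = act im (qmul x y) := by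
    intro x y hx hy
    refine F.ιQ_inj (qmul_lt (hW x hx).1 (hW y hy).1) (hW _ (qmul_lt hx hy)).1 ?_
    rw [← F.ιQ_mul (hW x hx).1 (hW y hy).1, ← (hW _ (qmul_lt hx hy)).2, ← F.ιQ_mul hx hy, cw,
      (hW x hx).2, (hW y hy).2]
  have inj : ∀ {x y : ℕ}, x < 128 → y < 128 → act im x = act im y → x = y := by
    intro x y hx hy e
    refine F.ιQ_inj hx hy ?_
    have := (hW x hx).2.trans ((congrArg (ιQ t s h k) e).trans (hW y hy).2.symm)
    exact mul_left_cancel (mul_right_cancel this)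
  have img : ∀ {x y : ℕ}, x < 128 → y < 128 → (ιQ t s h k) y = w * (ιQ t s h k) x * w⁻¹ → act im x = y :=
    fun {x y} hx hy e => F.ιQ_inj (hW x hx).1 hy (by rw [← (hW x hx).2]; exact e.symm)
  have i96 := img (by norm_num) la0 ha0
  have i16 := img (by norm_num) la1 ha1
  have i4 := img (by norm_num) lb0 hb0
  have i6 := img (by norm_num) lb1 hb1
  have i0 : act im 0 = 0 := by simp [act, qmul, qbit, fS, fR, fC, bit, par]
  have comm_of : ∀ {x y : ℕ}, x < 128 → y < 128 → qmul x y = qmul y x →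
      qmul (act im x) (act im y) = qmul (act im y) (act im x) := fun hx hy e => by
    rw [hom hx hy, hom hy hx, e]
  have ncomm_of : ∀ {x y : ℕ}, x < 128 → y < 128 → qmul x y = qmul (qmul y x) 1 →
      qmul (act im x) (act im y) ≠ qmul (act im y) (act im x) := fun {x y} hx hy e he => by
    rw [hom hx hy, hom hy hx] at he
    exact qmul_one_ne ⟨_, qmul_lt hy hx⟩ (e.symm.trans (inj (qmul_lt hx hy) (qmul_lt hy hx) he))
  have hquick : quickOK a0 a1 b0 b1 = true := by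
    simp only [quickOK, Bool.and_eq_true, beq_iff_eq, Bool.not_eq_true', beq_eq_false_iff_ne]
    rw [← i96, ← i16, ← i4, ← i6]
    refine ⟨⟨⟨⟨⟨⟨?_, ?_⟩, comm_of ?_ ?_ d01⟩, ncomm_of ?_ ?_ m00⟩, ncomm_of ?_ ?_ m01⟩,
      comm_of ?_ ?_ m10⟩, ncomm_of ?_ ?_ m11⟩ <;> try norm_num
    · rw [hom (by norm_num) (by norm_num), d00, i0]
    · rw [hom (by norm_num) (by norm_num), d11, i0]
  have mem6 : ∀ {g : ℕ}, g ∈ gens6 → g < 128 := fun hg => by
    obtain ⟨i, hi, rfl⟩ := mem_gens6 hg; exact gens6_lt i hi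
  have half : ∀ {g y : ℕ} {c : G}, g < 128 → y < 128 → c ∈ Q → c * (ιQ t s h k) g * c⁻¹ = (ιQ t s h k) y →
      y / 2 = g / 2 := by
    intro g y c hg hy hc e
    obtain ⟨q, hq, rfl⟩ := F.ιQ_surj hc
    obtain ⟨l, e'⟩ := F.ιQ_qconj hq hg
    rw [← F.ιQ_inj l hy (e'.symm.trans e)]
    exact qconj_half ⟨q, hq⟩ ⟨g, hg⟩
  have imgen : ∀ i < 6, act im (gens6.getD i 0) = im.getD i 0 := by
    intro i hi
    refine img (gens6_lt i hi) (lim i hi) ?_
    rw [hg6]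
    interval_cases i
    · exact ha1
    · show (ιQ t s h k) (qmul a0 (bInv a1)) = w * (ιQ t s h k) (qmul 96 64) * w⁻¹
      rw [← F.ιQ_mul (by norm_num : 96 < 128) (by norm_num : 64 < 128), ← F.ιQ_mul la0 la2.1, cw,
        ← ha0, ← ha2]
    · exact ha2
    · show (ιQ t s h k) (qmul b0 b1) = w * (ιQ t s h k) (qmul 4 6) * w⁻¹
      rw [← F.ιQ_mul (by norm_num : 4 < 128) (by norm_num : 6 < 128), ← F.ιQ_mul lb0 lb1, cw,
        ← hb0, ← hb1]
    · exact hb0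
    · show (ιQ t s h k) (qmul (qmul b0 b1) (bInv b1)) = w * (ιQ t s h k) (qmul (qmul 4 6) 10) * w⁻¹
      rw [← F.ιQ_mul (qmul_lt (by norm_num) (by norm_num)) (by norm_num : 10 < 128),
        ← F.ιQ_mul (by norm_num : 4 < 128) (by norm_num : 6 < 128),
        ← F.ιQ_mul (qmul_lt lb0 lb1) lb2.1, ← F.ιQ_mul lb0 lb1, cw, cw, ← hb0, ← hb1, ← hb2]
  have hcand : candOK im = true := by
    simp only [candOK, Bool.and_eq_true, List.all_eq_true, beq_iff_eq, decide_eq_true_eq,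
      List.mem_range]
    refine ⟨⟨⟨⟨fun x hx => ?_, fun g hg => ?_⟩, fun i hi j hj => ?_⟩, fun g hg => ?_⟩,
      fun g hg => ?_⟩
    · obtain ⟨i, hi, rfl⟩ := List.getElem_of_mem hx
      have hi6 : i < 6 := by simpa [im, imOf] using hi
      rw [← List.getD_eq_getElem _ 0 hi]
      refine ⟨lim i hi6, ?_⟩
      rw [← imgen i hi6, hom (gens6_lt i hi6) (gens6_lt i hi6)]
      convert i0 using 2
      interval_cases i <;> decide
    · have lg := mem6 hg
      obtain ⟨lB, eB⟩ := F.actsB g lg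
      obtain ⟨l, e⟩ := F.b_inv_acts (hW g lg).1
      refine F.ιQ_inj (hW _ lB).1 l ?_
      rw [← (hW _ lB).2, ← e, ← eB, ← (hW g lg).2]
      calc w * (b * (ιQ t s h k) g * b⁻¹) * w⁻¹ = w * b * (ιQ t s h k) g * (w * b)⁻¹ := by group
        _ = b⁻¹ * w * (ιQ t s h k) g * (b⁻¹ * w)⁻¹ := by rw [wb']
        _ = _ := by group
    · rw [← hom (gens6_lt i hi) (gens6_lt j hj), imgen i hi, imgen j hj]
    · have lg := mem6 hg
      obtain ⟨l, e⟩ := hW.two hW lg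
      exact half lg l hw2 e
    · have lg := mem6 hg
      obtain ⟨l1, e1⟩ := hW g lg
      obtain ⟨l2, e2⟩ := F.actsS _ l1
      obtain ⟨l3, e3⟩ := hW _ l2
      obtain ⟨l4, e4'⟩ := F.actsS _ l3
      obtain ⟨l5, e5⟩ := hW _ l4
      obtain ⟨l6, e6'⟩ := F.actsS _ l5
      refine half lg l6 hsw ?_
      rw [← e6', ← e5, ← e4', ← e3, ← e2, ← e1, pow_succ, pow_two]; group
  have hscan : candScan a0 = true := by
    simp only [fixB, List.mem_cons, List.not_mem_nil, or_false] at fa0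
    rcases fa0 with rfl | rfl | rfl | rfl | rfl | rfl | rfl | rfl
    exacts [cand_0, cand_1, cand_4, cand_5, cand_96, cand_97, cand_100, cand_101]
  have h1 := CosetEnum.allUp_spec hscan a1 (Nat.zero_le _) (by simpa using la1)
  have g1 : qmul a1 a1 = 0 ∧ qmul a0 a1 = qmul a1 a0 := by
    rw [← i96, ← i16]
    exact ⟨by rw [hom (by norm_num) (by norm_num), c11, i0],
      comm_of (by norm_num) (by norm_num) c01⟩
  simp only [g1, beq_self_eq_true, Bool.and_self, cond_true, List.all_eq_true] at h1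
  have h2 := CosetEnum.allUp_spec (h1 b0 fb0) b1 (Nat.zero_le _) (by simpa using lb1)
  simp only [hquick, show candOK (imOf a0 a1 b0 b1) = true from hcand, Bool.and_self,
    cond_true] at h2
  simp only [normOK, List.any_eq_true, List.contains_iff_mem] at h2
  obtain ⟨q, hqf, him⟩ := h2
  have hqfacts := List.all_eq_true.mp fixB_facts q hqf
  simp only [Bool.and_eq_true, decide_eq_true_eq, beq_iff_eq] at hqfacts
  obtain ⟨lq, hqb⟩ := hqfacts
  set im' := gens6.map fun g => act (imOf a0 a1 b0 b1) (qconj q g)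
  set w1 := w * (ιQ t s h k) q
  have hqt : (ιQ t s h k) q * t = t * (ιQ t s h k) q := F.comm_t _ (F.ιQ_mem q)
  have hw1t : w1 * t = t * w1 := by
    calc w1 * t = w * ((ιQ t s h k) q * t) := by simp only [w1]; group
      _ = w * t * (ιQ t s h k) q := by rw [hqt]; group
      _ = t * w1 := by rw [hwt]; simp only [w1]; group
  have hw1b : w1 * b * w1⁻¹ = b⁻¹ := by
    obtain ⟨-, e⟩ := F.actsB q lq
    rw [hqb, mul_inv_eq_iff_eq_mul] at e
    calc w1 * b * w1⁻¹ = w * ((ιQ t s h k) q * b) * ((ιQ t s h k) q)⁻¹ * w⁻¹ := by simp only [w1]; group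
      _ = w * (b * (ιQ t s h k) q) * ((ιQ t s h k) q)⁻¹ * w⁻¹ := by rw [e]
      _ = _ := by rw [← hwb]; group
  have hW1 : ActsBy t s h k w1 im' := by
    refine F.actsBy hw1t (fun i hi => ?_) fun i hi => ?_ <;>
      simp only [im', List.getD_eq_getElem?_getD, List.getElem?_map,
        List.getElem?_eq_getElem (show i < gens6.length from hi), Option.map_some, Option.getD_some]
    · exact (hW _ (F.ιQ_qconj lq (mem6 (List.getElem_mem _))).1).1
    · obtain ⟨l, e⟩ := F.ιQ_qconj lq (mem6 (List.getElem_mem (show i < gens6.length from hi)))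
      rw [← (hW _ l).2, ← e]
      simp only [w1]; group
  have hreps := List.all_eq_true.mp reps_facts im' him
  simp only [Bool.and_eq_true, List.all_eq_true, List.mem_range, beq_iff_eq,
    decide_eq_true_eq] at hreps
  have huu : w1 * w1 = 1 ∨ w1 * w1 = t := by
    refine F.central_eq ((show Commute w1 t from hw1t).mul_left hw1t).eq fun x hx => ?_
    rw [(hW1.two hW1 hx).2, ((hreps.2 x hx).1).2]
  have hrr : (s * w1) ^ 3 = 1 ∨ (s * w1) ^ 3 = t := by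
    refine F.central_eq (((show Commute s t from F.s_t).mul_left hw1t).pow_left 3).eq fun x hx => ?_
    obtain ⟨l1, e1⟩ := hW1 x hx
    obtain ⟨l2, e2⟩ := F.actsS _ l1
    obtain ⟨l3, e3⟩ := hW1 _ l2
    obtain ⟨l4, e4'⟩ := F.actsS _ l3
    obtain ⟨l5, e5⟩ := hW1 _ l4
    obtain ⟨l6, e6'⟩ := F.actsS _ l5
    conv_rhs => rw [← (hreps.2 x hx).2]
    rw [← e6', ← e5, ← e4', ← e3, ← e2, ← e1, pow_succ, pow_two]; group
  rcases hrr with hr | hr
  · exact ⟨w1, im', him, hw1t, hw1b, hW1, hr, huu, _, F.ιQ_mem q, rfl⟩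
  have tinv : t⁻¹ = t := inv_eq_of_mul_eq_one_right F.t_sq
  refine ⟨w1 * t, im', him, ?_, ?_, fun x hx => ⟨(hW1 x hx).1, ?_⟩, ?_, ?_,
    _, Q.mul_mem (F.ιQ_mem q) F.t_mem, mul_assoc ..⟩
  · rw [hw1t, mul_assoc, hw1t]
  · calc w1 * t * b * (w1 * t)⁻¹ = w1 * (t * b) * t⁻¹ * w1⁻¹ := by group
      _ = w1 * (b * t) * t⁻¹ * w1⁻¹ := by rw [F.b_t]
      _ = _ := by rw [← hw1b]; group
  · rw [← (hW1 x hx).2]
    calc w1 * t * (ιQ t s h k) x * (w1 * t)⁻¹ = w1 * (t * (ιQ t s h k) x) * t⁻¹ * w1⁻¹ := by group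
      _ = w1 * ((ιQ t s h k) x * t) * t⁻¹ * w1⁻¹ := by rw [F.comm_t _ (F.ιQ_mem x)]
      _ = _ := by group
  · have c : Commute (s * w1) t := (show Commute s t from F.s_t).mul_left hw1t
    rw [← mul_assoc, c.mul_pow, hr, pow_succ, pow_two, F.t_sq, one_mul, F.t_sq]
  · have e : w1 * t * (w1 * t) = w1 * w1 := by
      calc w1 * t * (w1 * t) = w1 * (t * w1) * t := by group
        _ = w1 * w1 * (t * t) := by rw [← hw1t]; group
        _ = _ := by rw [F.t_sq, mul_one]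
    rwa [e]

end Frame

end CfsgLib.HeUnique.Struct
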