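import Cfsg.Agent.Lib.HeUnique.Struct.SL
import Cfsg.Agent.Lib.HeUnique.Struct.Third
import Cfsg.Agent.Lib.HeUnique.Struct.Quot
import Cfsg.Agent.Lib.HeUnique.Struct.Elim
import Cfsg.Agent.Lib.HeUnique.Struct.Other0
import Cfsg.Agent.Lib.HeUnique.Struct.Other1
import Cfsg.Agent.Lib.HeUnique.Struct.Other2
import Cfsg.Agent.Lib.HeUnique.Struct.Other3
import Cfsg.Agent.Lib.HeUnique.Struct.Other4
import Cfsg.Agent.Lib.Extraspecial.Uniqueness

/-!
The centralizer of the involution is that of a transvection.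
-/

set_option autoImplicit false

open Cfsg

namespace CfsgLib.HeUnique.Struct

/-- Two elements of order `p` in one coset of `Q` are conjugate under `Q`. -/
theorem exists_conj_in {C : Type*} [Group C] [Finite C] (Q : Subgroup C) [Q.Normal] {p : ℕ}
    [Fact p.Prime] (hp : ¬ p ∣ Nat.card Q) {y z : C} (hy : y ^ p = 1) (hz : z ^ p = 1)
    (hyz : y * z⁻¹ ∈ Q) : ∃ q ∈ Q, y * q = q * z := by
  classical
  have := Fintype.ofFinite Q
  have hmem : ∀ q : Q, y * q * z⁻¹ ∈ Q := fun q => by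
    rw [show y * (q : C) * z⁻¹ = y * q * y⁻¹ * (y * z⁻¹) by group]
    exact Q.mul_mem (‹Q.Normal›.conj_mem q q.2 y) hyz
  let f : Function.End Q := fun q => ⟨y * q * z⁻¹, hmem q⟩
  have hit : ∀ n : ℕ, ∀ q : Q, (((f ^ n : Function.End Q) q : Q) : C) = y ^ n * q * (z ^ n)⁻¹ := by
    intro n
    induction n with
    | zero => intro q; simp; rfl
    | succ n ih =>
      intro q
      rw [pow_succ']
      show y * (((f ^ n : Function.End Q) q : Q) : C) * z⁻¹ = _
      rw [ih, pow_succ', pow_succ]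
      group
  have hf : f ^ p ^ 1 = 1 := by
    funext q
    refine Subtype.ext ?_
    rw [hit, pow_one, hy, hz]
    simp
    rfl
  have h := Equiv.Perm.card_fixedPoints_modEq (p := p) (n := 1) hf
  by_contra hne
  push Not at hne
  have h0 : Fintype.card f.fixedPoints = 0 := by
    rw [Fintype.card_eq_zero_iff]
    exact ⟨fun q => hne q.1 q.1.2 (eq_mul_inv_iff_mul_eq.mp (congrArg Subtype.val q.2).symm).symm⟩
  rw [h0, ← Nat.card_eq_fintype_card] at h
  exact hp (Nat.modEq_zero_iff_dvd.mp h)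

theorem rep_map {A B : Type*} [Group A] [Group B] (f : A →* B) (s b w : A) (n : ℕ) :
    f (rep s b w n) = rep (f s) (f b) (f w) n := by
  simp only [rep, wordVal, map_list_prod, List.map_map]
  congr 1
  apply List.map_congr_left
  intro g _
  simp only [Function.comp_apply, letter]
  split_ifs <;> rfl

theorem exists_rep_aux {G : Type*} [Group G] [Finite G] [IsSimpleGroup G] (t : G)
    (ht : orderOf t = 2) (C : Subgroup G) (hCdef : C = Subgroup.centralizer ({t} : Set G))
    (Q : Subgroup C) [Q.Normal]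
    (hQ : IsExtraspecial 2 Q) (hcard : Nat.card Q = 2 ^ 7)
    (h2c : Subgroup.centralizer (Q : Set C) ≤ Q)
    (e : C ⧸ Q ≃* Matrix.SpecialLinearGroup (Fin 3) (ZMod 2))
    (hG : Nat.card G = 4030387200) : ∃ ι : ℕ → G, Rep t ι := by
  classical
  haveI : Fact (Nat.Prime 2) := ⟨Nat.prime_two⟩
  haveI : Fact (Nat.Prime 3) := ⟨Nat.prime_three⟩
  haveI : Fact (Nat.Prime 7) := ⟨by norm_num⟩
  let π : C →* Matrix.SpecialLinearGroup (Fin 3) (ZMod 2) :=
    e.toMonoidHom.comp (QuotientGroup.mk' Q)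
  have hπs : Function.Surjective π := e.surjective.comp (QuotientGroup.mk'_surjective Q)
  have hπ : ∀ x : C, π x = 1 ↔ x ∈ Q := fun x => by
    show e (QuotientGroup.mk' Q x) = 1 ↔ _
    rw [MulEquiv.map_eq_one_iff]
    exact QuotientGroup.eq_one_iff x
  have hC : Nat.card C = 21504 := by
    rw [Subgroup.card_eq_card_quotient_mul_card_subgroup Q, Nat.card_congr e.toEquiv, card_sl3,
      hcard]
    norm_num
  have memC : ∀ {g : G}, g ∈ C ↔ g * t = t * g := by
    intro g
    rw [hCdef]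
    exact Subgroup.mem_centralizer_singleton_iff
  have hC' : Nat.card (Subgroup.centralizer ({t} : Set G)) = 21504 := hCdef ▸ hC
  let tC : C := ⟨t, memC.mpr rfl⟩
  have tcen : ∀ c : C, c * tC = tC * c := fun c => Subtype.ext (memC.mp c.2)
  have t2 : t * t = 1 := by rw [← pow_two, ← ht, pow_orderOf_eq_one]
  have t1 : t ≠ 1 := fun h => by rw [h, orderOf_one] at ht; norm_num at ht
  have tQ : tC ∈ Q := h2c (Subgroup.mem_centralizer_iff.mpr fun q _ => tcen q)
  have cen2 : ∀ q : Q, q ∈ Subgroup.center Q → (((q : C) : G) = 1 ∨ ((q : C) : G) = t) := by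
    intro q hq
    obtain ⟨a, b, hab, he⟩ := Nat.card_eq_two_iff.mp hQ.2
    have hall : ∀ w : Subgroup.center Q, w = a ∨ w = b := fun w => by
      have : w ∈ ({a, b} : Set (Subgroup.center Q)) := by rw [he]; exact Set.mem_univ _
      simpa using this
    have i1 : (1 : Q) ∈ Subgroup.center Q := Subgroup.one_mem _
    have it : (⟨tC, tQ⟩ : Q) ∈ Subgroup.center Q :=
      Subgroup.mem_center_iff.mpr fun x => Subtype.ext (tcen x)
    have val : ∀ {u v : Subgroup.center Q}, u = v →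
        (((u : Q) : C) : G) = (((v : Q) : C) : G) := fun h => by rw [h]
    rcases hall ⟨_, i1⟩ with e1 | e1 <;> rcases hall ⟨_, it⟩ with e2 | e2 <;>
      rcases hall ⟨_, hq⟩ with e3 | e3
    all_goals first
      | exact Or.inl (val (e3.trans e1.symm))
      | exact Or.inr (val (e3.trans e2.symm))
      | exact absurd (val (e2.trans e1.symm)) t1
  set Qg := Q.map C.subtype
  have hQg : ∀ c : C, (c : G) ∈ Qg ↔ c ∈ Q := fun c =>
    Subgroup.mem_map_iff_mem C.subtype_injective
  have hex : ∀ {g : G}, g ∈ Qg → ∃ c : C, c ∈ Q ∧ (c : G) = g := fun hg => hg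
  have B : Base t Qg := by
    refine ⟨t2, t1, (hQg tC).mpr tQ, ?_, ?_, ?_, ?_, ?_, ?_⟩
    · intro q hq
      obtain ⟨c, -, rfl⟩ := hex hq
      exact memC.mp c.2
    · intro c hc q hq
      obtain ⟨q', hq', rfl⟩ := hex hq
      exact (hQg (⟨c, memC.mpr hc⟩ * q' * ⟨c, memC.mpr hc⟩⁻¹)).mpr
        (‹Q.Normal›.conj_mem q' hq' _)
    · intro c hc hcq
      set c' : C := ⟨c, memC.mpr hc⟩
      have hcQ : c' ∈ Q := h2c (Subgroup.mem_centralizer_iff.mpr fun q hq =>
        Subtype.ext (hcq q ((hQg q).mpr hq)).symm)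
      exact cen2 ⟨c', hcQ⟩ (Subgroup.mem_center_iff.mpr fun x =>
        Subtype.ext (Subtype.ext (hcq _ ((hQg x).mpr x.2)).symm))
    · intro q hq
      obtain ⟨q', hq', rfl⟩ := hex hq
      have h := cen2 _ (Extraspecial.pow_mem_center hQ ⟨q', hq'⟩)
      simpa [pow_two] using h
    · intro a ha b hb
      obtain ⟨a', ha', rfl⟩ := hex ha
      obtain ⟨b', hb', rfl⟩ := hex hb
      have h := cen2 _ (Extraspecial.comm_mem hQ ⟨a', ha'⟩⁻¹ ⟨b', hb'⟩⁻¹)
      simp only [commutatorElement_def, Subgroup.coe_mul, Subgroup.coe_inv, inv_inv] at h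
      show (a' : G) * b' = b' * a' ∨ (a' : G) * b' = b' * a' * t
      rw [show (a' : G) * b' = b' * a' * ((a' : G)⁻¹ * (b' : G)⁻¹ * a' * b') by group]
      rcases h with h | h <;> rw [h]
      · left; rw [mul_one]
      · right; rfl
    · rw [Subgroup.card_map_of_injective C.subtype_injective, hcard]; norm_num
  obtain ⟨r1, r1n, r2, r3, r4, r5, r6⟩ := slLetter_rels
  have hsmall : ∀ {x : C}, x ∈ Q → x ^ 4 = 1 := by
    intro x hx
    apply Subtype.ext
    have e4 : ((x ^ 4 : C) : G) = (x : G) * x * ((x : G) * x) := by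
      simp [pow_succ, mul_assoc]
    rw [e4, Subgroup.coe_one]
    rcases B.sq _ ((hQg x).mpr hx) with h | h <;> rw [h]
    · rw [one_mul]
    · exact t2
  have hodd : ∀ {p : ℕ}, p ∣ 2 ^ 7 → p = 3 ∨ p = 7 → False := by
    rintro p hd (rfl | rfl) <;> norm_num at hd
  have hn3 : ¬ 3 ∣ Nat.card Q := fun h => hodd (hcard ▸ h) (Or.inl rfl)
  have hn7 : ¬ 7 ∣ Nat.card Q := fun h => hodd (hcard ▸ h) (Or.inr rfl)
  have inQ : ∀ {x y : C}, π x = π y → x * y⁻¹ ∈ Q := fun {x y} h =>
    (hπ _).mp (by rw [map_mul, map_inv, h, mul_inv_cancel])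
  obtain ⟨x7, hx7⟩ := hπs (slLetter 0)
  obtain ⟨s, hs_def⟩ : ∃ s, s = x7 ^ 8 := ⟨_, rfl⟩
  have hs : π s = slLetter 0 := by
    rw [hs_def, map_pow, hx7, show (8 : ℕ) = 7 + 1 from rfl, pow_succ, r1, one_mul]
  have s7 : s ^ 7 = 1 := by
    rw [hs_def, ← pow_mul, show 8 * 7 = 7 * 4 * 2 by norm_num, pow_mul, pow_mul,
      hsmall ((hπ _).mp (by rw [map_pow, hx7, r1])), one_pow]
  obtain ⟨x3, hx3⟩ := hπs (slLetter 1)
  obtain ⟨q3, hq3, e3⟩ := exists_conj_in Q hn7 (y := x3 * s * x3⁻¹) (z := s ^ 2)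
    (by rw [conj_pow, s7]; group) (by rw [← pow_mul, mul_comm, pow_mul, s7, one_pow])
    (inQ (by rw [map_mul, map_mul, map_inv, map_pow, hx3, hs, r3, pow_two]; group))
  set c3 := q3⁻¹ * x3
  have hc3 : c3 * s * c3⁻¹ = s ^ 2 := by
    calc c3 * s * c3⁻¹ = q3⁻¹ * (x3 * s * x3⁻¹ * q3) := by simp only [c3]; group
      _ = q3⁻¹ * (q3 * s ^ 2) := by rw [e3]
      _ = s ^ 2 := by group
  have πc3 : π c3 = slLetter 1 := by
    simp only [c3, map_mul, map_inv, (hπ q3).mpr hq3, inv_one, one_mul, hx3]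
  obtain ⟨b, hb_def⟩ : ∃ b, b = c3 ^ 4 := ⟨_, rfl⟩
  have hb : π b = slLetter 1 := by
    rw [hb_def, map_pow, πc3, show (4 : ℕ) = 3 + 1 from rfl, pow_succ, r2, one_mul]
  have b3 : b ^ 3 = 1 := by
    rw [hb_def, ← pow_mul, show 4 * 3 = 3 * 4 by norm_num, pow_mul]
    exact hsmall ((hπ _).mp (by rw [map_pow, πc3, r2]))
  have conj_iter : ∀ n : ℕ, c3 ^ n * s * (c3 ^ n)⁻¹ = s ^ 2 ^ n := by
    intro n
    induction n with
    | zero => simp
    | succ n ih =>
      calc c3 ^ (n + 1) * s * (c3 ^ (n + 1))⁻¹ = c3 * (c3 ^ n * s * (c3 ^ n)⁻¹) * c3⁻¹ := by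
            rw [pow_succ']; group
        _ = (c3 * s * c3⁻¹) ^ 2 ^ n := by rw [ih, conj_pow]
        _ = s ^ 2 ^ (n + 1) := by rw [hc3, ← pow_mul, pow_succ, mul_comm]
  have bs : b * s * b⁻¹ = s ^ 2 := by
    rw [hb_def, conj_iter, pow_eq_pow_mod _ s7]; rfl
  obtain ⟨xw, hxw⟩ := hπs (slLetter 2)
  have hbinv : π b⁻¹ = slLetter 1 * slLetter 1 := by
    rw [map_inv, hb]
    refine inv_eq_of_mul_eq_one_right ?_
    rw [← r2, pow_succ, pow_two, mul_assoc]
  obtain ⟨qw, hqw, ew⟩ := exists_conj_in Q hn3 (y := xw * b * xw⁻¹) (z := b⁻¹)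
    (by rw [conj_pow, b3]; group) (by rw [inv_pow, b3, inv_one])
    (inQ (by rw [map_mul, map_mul, map_inv, hb, hxw, hbinv, r4]; group))
  set w := qw⁻¹ * xw
  have wb : w * b * w⁻¹ = b⁻¹ := by
    calc w * b * w⁻¹ = qw⁻¹ * (xw * b * xw⁻¹ * qw) := by simp only [w]; group
      _ = qw⁻¹ * (qw * b⁻¹) := by rw [ew]
      _ = b⁻¹ := by group
  have hw : π w = slLetter 2 := by
    simp only [w, map_mul, map_inv, (hπ qw).mpr hqw, inv_one, one_mul, hxw]
  have T : Twenty t Qg s b :=
    { toBase := B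
      s7 := by rw [← Subgroup.coe_pow, s7, Subgroup.coe_one]
      s_t := memC.mp s.2
      s_ne := fun h => r1n (by rw [← hs, show s = 1 from Subtype.ext h, map_one])
      b_t := memC.mp b.2
      b3 := by rw [← Subgroup.coe_pow, b3, Subgroup.coe_one]
      bs := by rw [← Subgroup.coe_inv, ← Subgroup.coe_mul, ← Subgroup.coe_mul, bs, Subgroup.coe_pow] }
  obtain ⟨h, k, hf, kf, P, pat⟩ := T.exists_bases
  have F : Frame t Qg s b h k := { toTwenty := T, hfix := hf, kfix := kf, pair := P, pattern := pat }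
  obtain ⟨w', im, him, w't, w'b, w'act, w'cube, w'sq, qd, hqd, hw'⟩ := F.exists_third (w := (w : G)) (memC.mp w.2)
    (by rw [← Subgroup.coe_inv, ← Subgroup.coe_mul, ← Subgroup.coe_mul, wb, Subgroup.coe_inv])
    ((hQg (w * w)).mpr ((hπ _).mp (by rw [map_mul, hw, r5])))
    ((hQg ((s * w) ^ 3)).mpr ((hπ _).mp (by rw [map_pow, map_mul, hs, hw, pow_succ, pow_two, r6])))
  obtain ⟨qd', hqd', rfl⟩ := hex hqd
  set wc : C := ⟨w', memC.mpr w't⟩
  have hwc : π wc = slLetter 2 := by
    rw [show wc = w * qd' from Subtype.ext hw', map_mul, (hπ qd').mpr hqd', hw, mul_one]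
  obtain ⟨wi, hwi, hime⟩ : ∃ wi < 3, imW wi = im := by
    obtain ⟨i, hi, e⟩ := List.getElem_of_mem him
    exact ⟨i, hi, by rw [imW, List.getD_eq_getElem _ _ hi, e]⟩
  obtain ⟨ub, hub, hu⟩ : ∃ ub < 2, w' * w' = t ^ ub := by
    rcases w'sq with h | h
    · exact ⟨0, by norm_num, by rw [h, pow_zero]⟩
    · exact ⟨1, by norm_num, by rw [h, pow_one]⟩
  have hut : ∀ {g : G}, g * t = t * g → w' * w' * g = g * (w' * w') := by
    intro g hg
    rw [hu]; exact ((show Commute t g from hg.symm).pow_left ub).eq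
  have D : Gen t Qg s b h k w' (w' * w') wi ub :=
    { frame := F
      rels :=
        { s7 := T.s7
          b3 := T.b3
          bs := T.bs
          wb := w'b
          w2 := rfl
          cube := w'cube
          u2 := by rw [hu, ← pow_add, pow_eq_pow_mod _ (show t ^ 2 = 1 by rw [sq, t2]),
            show (ub + ub) % 2 = 0 by omega, pow_zero]
          us := hut T.s_t
          ub := hut T.b_t }
      wi_lt := hwi
      ub_lt := hub
      w_t := w't
      acts := hime.symm ▸ w'act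
      u_eq := hu
      sep := by
        intro n m hn hm q hq e
        obtain ⟨q', hq', rfl⟩ := hex hq
        rw [show w' = C.subtype wc from rfl, show (s : G) = C.subtype s from rfl,
          show (b : G) = C.subtype b from rfl, ← rep_map, ← rep_map] at e
        have e' : rep s b wc n = q' * rep s b wc m := C.subtype_injective (by rw [map_mul]; exact e)
        have e'' := congrArg π e'
        rw [map_mul, (hπ q').mpr hq', one_mul, rep_map, rep_map, hs, hb, hwc] at e''
        exact rep_injective hn hm e'' }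
  interval_cases wi <;> interval_cases ub
  · exact ⟨_, D.toRep hC'⟩
  · exact (Gen.false_of_order (O := other0) D other0_ok hC' hG).elim
  · exact (Gen.false_of_order (O := other1) D other1_ok hC' hG).elim
  · exact (Gen.false_of_order (O := other2) D other2_ok hC' hG).elim
  · exact (Gen.false_of_order (O := other3) D other3_ok hC' hG).elim
  · exact (Gen.false_of_order (O := other4) D other4_ok hC' hG).elim

theorem exists_rep_of_data {G : Type*} [Group G] [Finite G] [IsSimpleGroup G] (t : G)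
    (ht : orderOf t = 2) (Q : Subgroup (Subgroup.centralizer ({t} : Set G))) [Q.Normal]
    (hQ : IsExtraspecial 2 Q) (hcard : Nat.card Q = 2 ^ 7)
    (h2c : Subgroup.centralizer (Q : Set (Subgroup.centralizer ({t} : Set G))) ≤ Q)
    (e : (Subgroup.centralizer ({t} : Set G)) ⧸ Q ≃* Matrix.SpecialLinearGroup (Fin 3) (ZMod 2))
    (hG : Nat.card G = 4030387200) : ∃ ι : ℕ → G, Rep t ι :=
  exists_rep_aux t ht _ rfl Q hQ hcard h2c e hG

end CfsgLib.HeUnique.Struct
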