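import Mathlib

/-!
A group `Q` in which commutators and squares are one of two central elements, as a symplectic
space, with an automorphism of order seven.
-/

set_option autoImplicit false

namespace CfsgLib.HeUnique.Struct

variable {G : Type*} [Group G]

/-- The setting: `Q` is normalised by the centralizer of `t` and has radical `{1, t}`. -/
structure Base (t : G) (Q : Subgroup G) : Prop where
  t_sq : t * t = 1
  t_ne : t ≠ 1
  t_mem : t ∈ Q
  comm_t : ∀ q ∈ Q, q * t = t * q
  norm : ∀ c : G, c * t = t * c → ∀ q ∈ Q, c * q * c⁻¹ ∈ Q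
  self : ∀ c : G, c * t = t * c → (∀ q ∈ Q, c * q = q * c) → c = 1 ∨ c = t
  sq : ∀ q ∈ Q, q * q = 1 ∨ q * q = t
  comm : ∀ a ∈ Q, ∀ b ∈ Q, a * b = b * a ∨ a * b = b * a * t
  card : Nat.card Q = 128

/-- A power of `t`. -/
def tp (t : G) (e : ZMod 2) : G := if e = 0 then 1 else t

open Classical in
/-- The commutator form. -/
noncomputable def β (x y : G) : ZMod 2 := if x * y = y * x then 0 else 1

theorem tp_zero (t : G) : tp t 0 = 1 := by simp [tp]

theorem tp_one (t : G) : tp t 1 = t := by simp [tp]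

theorem β_self (x : G) : β x x = 0 := by simp [β]

theorem β_symm (x y : G) : β x y = β y x := by
  unfold β
  by_cases h : x * y = y * x
  · rw [if_pos h, if_pos h.symm]
  · rw [if_neg h, if_neg (fun e => h e.symm)]

theorem β_conj (g x y : G) : β (g * x * g⁻¹) (g * y * g⁻¹) = β x y := by
  unfold β
  rw [show g * x * g⁻¹ * (g * y * g⁻¹) = g * (x * y) * g⁻¹ by group,
    show g * y * g⁻¹ * (g * x * g⁻¹) = g * (y * x) * g⁻¹ by group]
  by_cases h : x * y = y * x
  · rw [if_pos h, if_pos (by rw [h])]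
  · rw [if_neg h, if_neg (fun e => h (mul_left_cancel (mul_right_cancel e)))]

theorem β_eq_zero {x y : G} : β x y = 0 ↔ x * y = y * x := by
  unfold β
  by_cases h : x * y = y * x
  · simp [h]
  · simp [h]

theorem zmod2_cases (e : ZMod 2) : e = 0 ∨ e = 1 := by
  revert e; decide

namespace Base

variable {t : G} {Q : Subgroup G} (B : Base t Q)
include B

theorem tp_mem (e : ZMod 2) : tp t e ∈ Q := by
  unfold tp; split_ifs
  exacts [Q.one_mem, B.t_mem]

theorem tp_add (d e : ZMod 2) : tp t (d + e) = tp t d * tp t e := by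
  rcases zmod2_cases d with rfl | rfl <;> rcases zmod2_cases e with rfl | rfl
  · simp [tp_zero]
  · simp [tp_zero]
  · simp [tp_zero]
  · rw [show (1 : ZMod 2) + 1 = 0 from by decide, tp_zero, tp_one, B.t_sq]

theorem tp_inj {d e : ZMod 2} (h : tp t d = tp t e) : d = e := by
  rcases zmod2_cases d with rfl | rfl <;> rcases zmod2_cases e with rfl | rfl <;>
    simp only [tp_zero, tp_one] at h ⊢
  · exact absurd h.symm B.t_ne
  · exact absurd h B.t_ne

theorem tp_comm {x : G} (hx : x ∈ Q) (e : ZMod 2) : x * tp t e = tp t e * x := by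
  unfold tp; split_ifs
  · simp
  · exact B.comm_t x hx

theorem swap {x y : G} (hx : x ∈ Q) (hy : y ∈ Q) : x * y = y * x * tp t (β x y) := by
  unfold β
  by_cases h : x * y = y * x
  · rw [if_pos h, tp_zero, mul_one, h]
  · rw [if_neg h, tp_one]
    exact (B.comm x hx y hy).resolve_left h

theorem β_eq_of_swap {x y : G} (hx : x ∈ Q) (hy : y ∈ Q) {e : ZMod 2}
    (h : x * y = y * x * tp t e) : β x y = e :=
  B.tp_inj (mul_left_cancel ((B.swap hx hy).symm.trans h))

theorem β_mul_left {x x' y : G} (hx : x ∈ Q) (hx' : x' ∈ Q) (hy : y ∈ Q) :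
    β (x * x') y = β x y + β x' y := by
  refine B.β_eq_of_swap (Q.mul_mem hx hx') hy ?_
  calc x * x' * y = x * (y * x' * tp t (β x' y)) := by rw [mul_assoc, B.swap hx' hy]
    _ = y * x * tp t (β x y) * x' * tp t (β x' y) := by rw [← B.swap hx hy]; group
    _ = y * x * (tp t (β x y) * x') * tp t (β x' y) := by group
    _ = y * x * (x' * tp t (β x y)) * tp t (β x' y) := by rw [B.tp_comm hx']
    _ = y * (x * x') * tp t (β x y + β x' y) := by rw [B.tp_add]; group

theorem β_mul_right {x y y' : G} (hx : x ∈ Q) (hy : y ∈ Q) (hy' : y' ∈ Q) :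
    β x (y * y') = β x y + β x y' := by
  rw [β_symm, B.β_mul_left hy hy' hx, β_symm y, β_symm y']

theorem β_tp_left (e : ZMod 2) {y : G} (hy : y ∈ Q) : β (tp t e) y = 0 :=
  β_eq_zero.mpr (B.tp_comm hy e).symm

theorem radical {x : G} (hx : x ∈ Q) (h : ∀ y ∈ Q, β x y = 0) : x = 1 ∨ x = t :=
  B.self x (B.comm_t x hx) fun q hq => β_eq_zero.mp (h q hq)

end Base

/-- Conjugation by a power. -/
def sh (s : G) (i : ℕ) (x : G) : G := s ^ i * x * (s ^ i)⁻¹

theorem sh_add (s : G) (i j : ℕ) (x : G) : sh s i (sh s j x) = sh s (i + j) x := by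
  simp only [sh, pow_add]; group

theorem sh_mul (s : G) (i : ℕ) (x y : G) : sh s i (x * y) = sh s i x * sh s i y := by
  simp only [sh]; group

theorem sh_zero (s : G) (x : G) : sh s 0 x = x := by simp [sh]

theorem β_sh (s : G) (i : ℕ) (x y : G) : β (sh s i x) (sh s i y) = β x y := β_conj _ _ _

theorem sh_mod {s : G} (h7 : s ^ 7 = 1) (i : ℕ) (x : G) : sh s (i % 7) x = sh s i x := by
  simp only [sh]
  rw [← pow_eq_pow_mod i h7]

/-- An element of order seven centralizing `t`. -/
structure Seven (t : G) (Q : Subgroup G) (s : G) : Prop extends Base t Q where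
  s7 : s ^ 7 = 1
  s_t : s * t = t * s
  s_ne : s ≠ 1

namespace Seven

variable {t : G} {Q : Subgroup G} {s : G} (S : Seven t Q s)
include S

theorem inv : Seven t Q s⁻¹ :=
  { toBase := S.toBase
    s7 := by rw [inv_pow, S.s7, inv_one]
    s_t := (show Commute s t from S.s_t).inv_left
    s_ne := inv_ne_one.mpr S.s_ne }

theorem sh_mem {x : G} (hx : x ∈ Q) (i : ℕ) : sh s i x ∈ Q :=
  S.norm _ ((show Commute s t from S.s_t).pow_left i) x hx

theorem sh_t (i : ℕ) : sh s i t = t := by
  rw [sh, ((show Commute s t from S.s_t).pow_left i).eq, mul_inv_cancel_right]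

/-- The cyclic sequence of values. -/
theorem β_shift {x y : G} (i j : ℕ) : β (sh s i x) (sh s j y) = β x (sh s ((j + 6 * i) % 7) y) := by
  rw [← β_sh s (6 * i), sh_add, sh_add, ← sh_mod S.s7 (6 * i + i), ← sh_mod S.s7 (6 * i + j),
    show (6 * i + i) % 7 = 0 by omega, sh_zero, add_comm (6 * i) j]

end Seven

/-- `x³ + x + 1` kills `x` modulo the centre. -/
def KillF (Q : Subgroup G) (s x : G) : Prop :=
  x ∈ Q ∧ ∀ y ∈ Q, β (sh s 3 x) y + β (sh s 1 x) y + β x y = 0

/-- `x³ + x² + 1` kills `x` modulo the centre. -/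
def KillG (Q : Subgroup G) (s x : G) : Prop :=
  x ∈ Q ∧ ∀ y ∈ Q, β (sh s 3 x) y + β (sh s 2 x) y + β x y = 0

/-- Cyclic sequences with both recurrences are constant. -/
theorem seq_const : ∀ c : Fin 7 → ZMod 2,
    (∀ i, c (i + 4) + c (i + 2) + c (i + 1) + c i = 0) →
    (∀ i, c (i + 3) + c (i + 5) + c (i + 6) + c i = 0) → ∀ i, c i = c 0 := by
  decide +kernel

/-- Isotropy. -/
theorem seq_zero : ∀ c : Fin 7 → ZMod 2,
    (∀ i, c (i + 3) + c (i + 1) + c i = 0) →
    (∀ i, c (i + 4) + c (i + 6) + c i = 0) → ∀ i, c i = 0 := by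
  decide +kernel

namespace Seven

variable {t : G} {Q : Subgroup G} {s : G} (S : Seven t Q s)
include S

theorem β_fin (x y : G) (i : Fin 7) (k : ℕ) :
    β x (sh s ((i.val + k) % 7) y) = β x (sh s ((i + (Fin.ofNat 7 k : Fin 7)) : Fin 7).val y) := by
  congr 2
  simp [Fin.val_add, Fin.ofNat]

/-- Products of four shifts killed modulo the centre. -/
theorem exists_killF : ∃ p, KillF Q s p ∧ p ≠ 1 ∧ p ≠ t := by
  classical
  let a : G → G := fun v => sh s 4 v * sh s 2 v * sh s 1 v * v
  have ha : ∀ v ∈ Q, a v ∈ Q := fun v hv =>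
    Q.mul_mem (Q.mul_mem (Q.mul_mem (S.sh_mem hv 4) (S.sh_mem hv 2)) (S.sh_mem hv 1)) hv
  have haβ : ∀ v ∈ Q, ∀ i, ∀ y ∈ Q, β (sh s i (a v)) y =
      β (sh s (i + 4) v) y + β (sh s (i + 2) v) y + β (sh s (i + 1) v) y + β (sh s i v) y := by
    intro v hv i y hy
    simp only [a, sh_mul, sh_add]
    have m := S.sh_mem hv
    rw [S.β_mul_left (Q.mul_mem (Q.mul_mem (m _) (m _)) (m _)) (m _) hy,
      S.β_mul_left (Q.mul_mem (m _) (m _)) (m _) hy, S.β_mul_left (m _) (m _) hy]
  have hkill : ∀ v ∈ Q, KillF Q s (a v) := fun v hv => by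
    refine ⟨ha v hv, fun y hy => ?_⟩
    have h0 := haβ v hv 0 y hy
    rw [sh_zero] at h0
    rw [haβ v hv 3 y hy, haβ v hv 1 y hy, h0, ← sh_mod S.s7 (3 + 4)]
    simp only [Nat.reduceAdd, Nat.reduceMod]
    generalize β (sh s 0 v) y = e0
    generalize β (sh s 1 v) y = e1
    generalize β (sh s 2 v) y = e2
    generalize β (sh s 3 v) y = e3
    generalize β (sh s 4 v) y = e4
    generalize β (sh s 5 v) y = e5
    revert e0 e1 e2 e3 e4 e5
    decide
  by_contra hne
  push Not at hne
  have hrel : ∀ v ∈ Q, ∀ y ∈ Q, ∀ i, β (sh s (i + 4) v) y + β (sh s (i + 2) v) y +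
      β (sh s (i + 1) v) y + β (sh s i v) y = 0 := by
    intro v hv y hy i
    rw [← haβ v hv i y hy]
    obtain e | e : a v = 1 ∨ a v = t := by
      by_cases h1 : a v = 1
      · exact Or.inl h1
      · exact Or.inr (hne _ (hkill v hv) h1)
    · rw [e, show sh s i (1 : G) = tp t 0 by simp [sh, tp_zero]]
      exact S.β_tp_left 0 hy
    · rw [e, S.sh_t, ← tp_one t]
      exact S.β_tp_left 1 hy
  have hfix : ∀ v ∈ Q, s * v = v * s := by
    intro v hv
    have hd : sh s 1 v * v⁻¹ ∈ Q := Q.mul_mem (S.sh_mem hv 1) (Q.inv_mem hv)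
    have hv1 : ∀ y ∈ Q, β (sh s 1 v) y = β v y := by
      intro y hy
      have hm : ∀ i : Fin 7, ∀ k : ℕ, β v (sh s ((i.val + k) % 7) y) =
          β v (sh s (i + (Fin.ofNat 7 k : Fin 7)).val y) := S.β_fin v y
      have key := seq_const (fun i => β v (sh s i.val y)) (fun i => by
          have := hrel y hy v hv i.val
          rw [β_symm (sh s (i.val + 4) y), β_symm (sh s (i.val + 2) y),
            β_symm (sh s (i.val + 1) y), β_symm (sh s i.val y), ← sh_mod S.s7 (i.val + 4),
            ← sh_mod S.s7 (i.val + 2), ← sh_mod S.s7 (i.val + 1), hm, hm, hm] at this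
          exact this) (fun i => by
          have := hrel v hv (sh s i.val y) (S.sh_mem hy _) 0
          simp only [Nat.zero_add] at this
          rw [S.β_shift, S.β_shift, S.β_shift, sh_zero, hm, hm, hm] at this
          exact this) 6
      calc β (sh s 1 v) y = β v (sh s 6 y) := by
            conv_lhs => rw [← sh_zero s y, S.β_shift]
        _ = β v (sh s 0 y) := key
        _ = β v y := by rw [sh_zero]
    have hr : sh s 1 v * v⁻¹ = 1 ∨ sh s 1 v * v⁻¹ = t := S.radical hd fun y hy => by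
      have h := S.β_mul_left hd hv hy
      rw [inv_mul_cancel_right, hv1 y hy] at h
      exact left_eq_add.mp (h.trans (add_comm _ _))
    rcases hr with e | e
    · rw [mul_inv_eq_one, sh, pow_one] at e
      exact mul_inv_eq_iff_eq_mul.mp e
    · exfalso
      rw [mul_inv_eq_iff_eq_mul] at e
      have hit : ∀ n, sh s n v = t ^ n * v := by
        intro n
        induction n with
        | zero => simp [sh_zero]
        | succ n ih =>
          rw [show n + 1 = 1 + n by omega, ← sh_add, ih, sh_mul, e, pow_add, pow_one,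
            show sh s 1 (t ^ n) = t ^ n by
              simp only [sh, pow_one]
              rw [((show Commute s t from S.s_t).pow_right n).eq, mul_inv_cancel_right]]
          simp only [← mul_assoc, ← pow_succ, ← pow_succ']
      have := hit 7
      rw [← sh_mod S.s7 7, Nat.mod_self, sh_zero, eq_comm, mul_eq_right,
        show (7 : ℕ) = 2 * 3 + 1 from rfl, pow_succ, pow_mul, sq, S.t_sq, one_pow, one_mul] at this
      exact S.t_ne this
  rcases S.self s S.s_t hfix with e | e
  · exact S.s_ne e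
  · have := S.s7
    rw [e, show (7 : ℕ) = 2 * 3 + 1 from rfl, pow_succ, pow_mul, sq, S.t_sq, one_pow, one_mul] at this
    exact S.t_ne this

theorem exists_killG : ∃ p, KillG Q s p ∧ p ≠ 1 ∧ p ≠ t := by
  obtain ⟨p, ⟨hp, hk⟩, h1⟩ := S.inv.exists_killF
  refine ⟨p, ⟨hp, fun y hy => ?_⟩, h1⟩
  have e : ∀ i x, sh s⁻¹ i x = sh s (6 * i % 7) x := by
    intro i x
    have hi : (s⁻¹) ^ i = s ^ (6 * i % 7) := by
      rw [← pow_eq_pow_mod (6 * i) S.s7, inv_pow, inv_eq_iff_mul_eq_one, ← pow_add,
        show i + 6 * i = 7 * i by ring, pow_mul, S.s7, one_pow]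
    simp only [sh, hi]
  have := hk (sh s 4 y) (S.sh_mem hy 4)
  rw [e, e, S.β_shift, S.β_shift] at this
  have h3 : β (sh s 3 p) y = β p (sh s 4 y) := by
    conv_lhs => rw [← sh_zero s y, S.β_shift]
  have h2 : β (sh s 2 p) y = β p (sh s 5 y) := by
    conv_lhs => rw [← sh_zero s y, S.β_shift]
  rw [h3, h2]
  simp only [Nat.reduceMul, Nat.reduceMod, Nat.reduceAdd, sh_zero] at this
  linear_combination this

/-- Two elements killed by the same polynomial commute. -/
theorem isotropic {p q : G} (hp : KillF Q s p) (hq : KillF Q s q) (i : ℕ) :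
    β p (sh s i q) = 0 := by
  have hm : ∀ i : Fin 7, ∀ k : ℕ, β p (sh s ((i.val + k) % 7) q) =
      β p (sh s (i + (Fin.ofNat 7 k : Fin 7)).val q) := S.β_fin p q
  have key := seq_zero (fun j => β p (sh s j.val q)) (fun j => by
      have := hq.2 (sh s (6 * j.val) p) (S.sh_mem hp.1 _)
      rw [← sh_zero s q, sh_add, sh_add, β_symm, β_symm (sh s (1 + 0) q),
        β_symm (sh s 0 q)] at this
      simp only [S.β_shift] at this
      simp only [show ∀ k, (k + 6 * (6 * j.val)) % 7 = (j.val + k) % 7 by intro k; omega] at this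
      simp only [hm, Nat.add_zero, Nat.mod_eq_of_lt j.isLt] at this
      exact this) (fun j => by
      have := hp.2 (sh s j.val q) (S.sh_mem hq.1 _)
      rw [S.β_shift, S.β_shift] at this
      simp only [hm] at this
      exact this)
  have := key ⟨i % 7, Nat.mod_lt _ (by norm_num)⟩
  rwa [sh_mod S.s7] at this

end Seven

end CfsgLib.HeUnique.Struct
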