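import Cfsg.Agent.Lib.HeUnique.Struct.Words
import Cfsg.Agent.Lib.HeUnique.Struct.Data
import Cfsg.Agent.Lib.HeUnique.Basic

/-!
The tables of the possible centralizers.
-/

set_option autoImplicit false
set_option Elab.async false

namespace CfsgLib.HeUnique.Struct

/-- The table of the third letter. -/
def imW (wi : ℕ) : List ℕ := repsW.getD wi []

/-- The table of a letter. -/
def letterIm (wi g : ℕ) : List ℕ := if g = 0 then imS else if g = 1 then imB else imW wi

/-- The action of a normal form. -/
def actW (wi n q : ℕ) : ℕ := (wordN n).foldr (fun g r => act (letterIm wi g) r) q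

/-- The packed action of a normal form. -/
noncomputable def actL (wi i q : ℕ) : ℕ :=
  Nat.mod (Nat.shiftRight ((bif wi == 0 then actTab0 else bif wi == 1 then actTab1 else actTab2).get 896 i)
    (7 * q)) 128

/-- The packed product of normal forms. -/
noncomputable def mulL (i j : ℕ) : ℕ :=
  Nat.mod (Nat.shiftRight (mulTab.get 1512 i) (9 * j)) 512

/-- The product of codes. -/
noncomputable def gmul (wi ub x y : ℕ) : ℕ :=
  let l := mulL (x / 128) (y / 128)
  l / 2 * 128 + qmul (qmul (x % 128) (actL wi (x / 128) (y % 128))) (l % 2 * ub)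

/-- The check of one entry of the product table. -/
noncomputable def mulCheck (p : ℕ) : Bool :=
  bif decide (p < 28224) then
    decide (mulL (p / 168) (p % 168) = (lmulN (p / 168) (p % 168)).2 * 2 +
      (lmulN (p / 168) (p % 168)).1) else true

theorem mulL_ok_0 : CosetEnum.allUp mulCheck 12 0 = true := by decide +kernel
theorem mulL_ok_1 : CosetEnum.allUp mulCheck 12 4096 = true := by decide +kernel
theorem mulL_ok_2 : CosetEnum.allUp mulCheck 12 8192 = true := by decide +kernel
theorem mulL_ok_3 : CosetEnum.allUp mulCheck 12 12288 = true := by decide +kernel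
theorem mulL_ok_4 : CosetEnum.allUp mulCheck 12 16384 = true := by decide +kernel
theorem mulL_ok_5 : CosetEnum.allUp mulCheck 12 20480 = true := by decide +kernel
theorem mulL_ok_6 : CosetEnum.allUp mulCheck 12 24576 = true := by decide +kernel
theorem mulL_ok_7 : CosetEnum.allUp mulCheck 12 28672 = true := by decide +kernel

theorem mulL_ok : CosetEnum.allUp mulCheck 15 0 = true :=
  (allUp_join (allUp_join (allUp_join mulL_ok_0 mulL_ok_1 (by norm_num)) (allUp_join mulL_ok_2 mulL_ok_3 (by norm_num)) (by norm_num)) (allUp_join (allUp_join mulL_ok_4 mulL_ok_5 (by norm_num)) (allUp_join mulL_ok_6 mulL_ok_7 (by norm_num)) (by norm_num)) (by norm_num))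

/-- The images of the basis under a normal form. -/
noncomputable def gensL (wi n : ℕ) : List ℕ :=
  [actL wi n 16, actL wi n 32, actL wi n 64, actL wi n 2, actL wi n 4, actL wi n 8]

/-- The check of one entry of an action table. -/
noncomputable def actCheck (wi p : ℕ) : Bool :=
  bif decide (p < 21504) then
    decide (actL wi (p / 128) (p % 128) = act (gensL wi (p / 128)) (p % 128))
  else true

/-- The check of the images of the basis. -/
noncomputable def gensCheck (wi n : ℕ) : Bool :=
  bif decide (n < 168) then gens6.all fun g => decide (actL wi n g = actW wi n g) else true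

theorem actL_ok0_0 : CosetEnum.allUp (actCheck 0) 12 0 = true := by decide +kernel
theorem actL_ok0_1 : CosetEnum.allUp (actCheck 0) 12 4096 = true := by decide +kernel
theorem actL_ok0_2 : CosetEnum.allUp (actCheck 0) 12 8192 = true := by decide +kernel
theorem actL_ok0_3 : CosetEnum.allUp (actCheck 0) 12 12288 = true := by decide +kernel
theorem actL_ok0_4 : CosetEnum.allUp (actCheck 0) 12 16384 = true := by decide +kernel
theorem actL_ok0_5 : CosetEnum.allUp (actCheck 0) 12 20480 = true := by decide +kernel
theorem actL_ok0_6 : CosetEnum.allUp (actCheck 0) 12 24576 = true := by decide +kernel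
theorem actL_ok0_7 : CosetEnum.allUp (actCheck 0) 12 28672 = true := by decide +kernel

theorem actL_ok0 : CosetEnum.allUp (actCheck 0) 15 0 = true :=
  (allUp_join (allUp_join (allUp_join actL_ok0_0 actL_ok0_1 (by norm_num)) (allUp_join actL_ok0_2 actL_ok0_3 (by norm_num)) (by norm_num)) (allUp_join (allUp_join actL_ok0_4 actL_ok0_5 (by norm_num)) (allUp_join actL_ok0_6 actL_ok0_7 (by norm_num)) (by norm_num)) (by norm_num))

theorem actL_ok1_0 : CosetEnum.allUp (actCheck 1) 12 0 = true := by decide +kernel
theorem actL_ok1_1 : CosetEnum.allUp (actCheck 1) 12 4096 = true := by decide +kernel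
theorem actL_ok1_2 : CosetEnum.allUp (actCheck 1) 12 8192 = true := by decide +kernel
theorem actL_ok1_3 : CosetEnum.allUp (actCheck 1) 12 12288 = true := by decide +kernel
theorem actL_ok1_4 : CosetEnum.allUp (actCheck 1) 12 16384 = true := by decide +kernel
theorem actL_ok1_5 : CosetEnum.allUp (actCheck 1) 12 20480 = true := by decide +kernel
theorem actL_ok1_6 : CosetEnum.allUp (actCheck 1) 12 24576 = true := by decide +kernel
theorem actL_ok1_7 : CosetEnum.allUp (actCheck 1) 12 28672 = true := by decide +kernel

theorem actL_ok1 : CosetEnum.allUp (actCheck 1) 15 0 = true :=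
  (allUp_join (allUp_join (allUp_join actL_ok1_0 actL_ok1_1 (by norm_num)) (allUp_join actL_ok1_2 actL_ok1_3 (by norm_num)) (by norm_num)) (allUp_join (allUp_join actL_ok1_4 actL_ok1_5 (by norm_num)) (allUp_join actL_ok1_6 actL_ok1_7 (by norm_num)) (by norm_num)) (by norm_num))

theorem actL_ok2_0 : CosetEnum.allUp (actCheck 2) 12 0 = true := by decide +kernel
theorem actL_ok2_1 : CosetEnum.allUp (actCheck 2) 12 4096 = true := by decide +kernel
theorem actL_ok2_2 : CosetEnum.allUp (actCheck 2) 12 8192 = true := by decide +kernel
theorem actL_ok2_3 : CosetEnum.allUp (actCheck 2) 12 12288 = true := by decide +kernel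
theorem actL_ok2_4 : CosetEnum.allUp (actCheck 2) 12 16384 = true := by decide +kernel
theorem actL_ok2_5 : CosetEnum.allUp (actCheck 2) 12 20480 = true := by decide +kernel
theorem actL_ok2_6 : CosetEnum.allUp (actCheck 2) 12 24576 = true := by decide +kernel
theorem actL_ok2_7 : CosetEnum.allUp (actCheck 2) 12 28672 = true := by decide +kernel

theorem actL_ok2 : CosetEnum.allUp (actCheck 2) 15 0 = true :=
  (allUp_join (allUp_join (allUp_join actL_ok2_0 actL_ok2_1 (by norm_num)) (allUp_join actL_ok2_2 actL_ok2_3 (by norm_num)) (by norm_num)) (allUp_join (allUp_join actL_ok2_4 actL_ok2_5 (by norm_num)) (allUp_join actL_ok2_6 actL_ok2_7 (by norm_num)) (by norm_num)) (by norm_num))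

theorem gensL_ok0 : CosetEnum.allUp (gensCheck 0) 8 0 = true := by decide +kernel
theorem gensL_ok1 : CosetEnum.allUp (gensCheck 1) 8 0 = true := by decide +kernel
theorem gensL_ok2 : CosetEnum.allUp (gensCheck 2) 8 0 = true := by decide +kernel

theorem mulL_eq {i j : ℕ} (hi : i < 168) (hj : j < 168) :
    mulL i j / 2 = (lmulN i j).2 ∧ mulL i j % 2 = (lmulN i j).1 := by
  have h := CosetEnum.allUp_spec mulL_ok (i * 168 + j) (Nat.zero_le _) (by norm_num; omega)
  simp only [mulCheck, decide_eq_true (show i * 168 + j < 28224 by omega), cond_true, decide_eq_true_eq,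
    show (i * 168 + j) / 168 = i by omega, show (i * 168 + j) % 168 = j by omega] at h
  have := (lmulN_lt hi hj).1
  omega

end CfsgLib.HeUnique.Struct
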